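import Groth.Agent.PrincBund.K206.AffMod

/-!
# The additive functions form a comodule over the quotient group
-/

set_option autoImplicit false

universe u

open TensorProduct WithConv Coalgebra HopfRep
open Groth.Agent.Books.DynBasic K206.KerPts K206.AffMod

namespace K206.AffComod

variable {k : Type u} [Field k] {A B H : Type u} [CommRing A] [HopfAlgebra k A] [CommRing B]
  [HopfAlgebra k B] [CommRing H] [HopfAlgebra k H] {φ : B →ₐc[k] A} {π : A →ₐc[k] H}

/-- The data: `φ` injective, `π` its cokernel, and `B` is the algebra of invariants. -/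
structure Data (φ : B →ₐc[k] A) (π : A →ₐc[k] H) : Prop where
  inj : Function.Injective φ
  ker : IsHopfKer φ π
  inv : ∀ a, rho π a = a ⊗ₜ[k] (1 : H) → ∃ b, φ b = a

/-- `AM ⊗ B → A ⊗ A` -/
noncomputable def jm (φ : B →ₐc[k] A) (π : A →ₐc[k] H) : AM π ⊗[k] B →ₗ[k] A ⊗[k] A :=
  TensorProduct.map (AM π).subtype (φ : B →ₐ[k] A).toLinearMap

lemma jm_eq (φ : B →ₐc[k] A) (π : A →ₐc[k] H) : jm φ π =
    (AM π).subtype.rTensor A ∘ₗ (φ : B →ₐ[k] A).toLinearMap.lTensor (AM π) := by
  rw [jm, LinearMap.rTensor_comp_lTensor]

lemma injective_subtype_rTensor (V : Submodule k A) (X : Type u) [AddCommGroup X] [Module k X] :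
    Function.Injective (V.subtype.rTensor X) :=
  Module.Flat.rTensor_preserves_injective_linearMap _ V.subtype_injective

variable (D : Data φ π)

include D

lemma Data.injective_lTensor (X : Type u) [AddCommGroup X] [Module k X] :
    Function.Injective ((φ : B →ₐ[k] A).toLinearMap.lTensor X) :=
  Module.Flat.lTensor_preserves_injective_linearMap _ D.inj

lemma Data.injective_jm : Function.Injective (jm φ π) := by
  rw [jm_eq]
  exact (injective_subtype_rTensor _ _).comp (D.injective_lTensor _)

lemma Data.exact : Function.Exact (φ : B →ₐ[k] A).toLinearMap (Fm π) := by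
  intro a
  constructor
  · intro h
    have h1 : rho π a - a ⊗ₜ[k] (1 : H) = 0 := h
    exact D.inv a (sub_eq_zero.1 h1)
  · rintro ⟨b, rfl⟩
    change rho π (φ b) - (φ b) ⊗ₜ[k] (1 : H) = 0
    rw [rho_phi D.ker, sub_self]

theorem Data.exists_redc {a : A} (ha : a ∈ AM π) : ∃ w : AM π ⊗[k] B, jm φ π w = redc k A a := by
  have h1 : Function.Exact (AM π).subtype (Lm π) := LinearMap.exact_subtype_ker_map (Lm π)
  obtain ⟨y, hy⟩ := (Module.Flat.rTensor_exact A h1 (redc k A a)).1 (rTensor_Lm_redc D.ker ha)
  have h2 := lTensor_Fm_redc ha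
  rw [← hy, ← LinearMap.comp_apply, LinearMap.lTensor_comp_rTensor, ← LinearMap.rTensor_comp_lTensor,
    LinearMap.comp_apply] at h2
  have h3 : (Fm π).lTensor (AM π) y = 0 :=
    (injective_iff_map_eq_zero _).1 (injective_subtype_rTensor (AM π) _) _ h2
  obtain ⟨w, hw⟩ := (Module.Flat.lTensor_exact (AM π) D.exact y).1 h3
  exact ⟨w, by rw [jm_eq, LinearMap.comp_apply, hw, hy]⟩

/-- the coaction -/
noncomputable def Data.co : AM π →ₗ[k] AM π ⊗[k] B :=
  (LinearEquiv.ofInjective (jm φ π) D.injective_jm).symm.toLinearMap ∘ₗ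
    LinearMap.codRestrict (LinearMap.range (jm φ π)) (redc k A ∘ₗ (AM π).subtype)
      (fun a => D.exists_redc a.2)

lemma Data.jm_co (a : AM π) : jm φ π (D.co a) = redc k A a := by
  have h := LinearEquiv.apply_symm_apply (LinearEquiv.ofInjective (jm φ π) D.injective_jm)
    (LinearMap.codRestrict (LinearMap.range (jm φ π)) (redc k A ∘ₗ (AM π).subtype)
      (fun a => D.exists_redc a.2) a)
  exact congrArg Subtype.val h

/-- **The comodule structure.** -/
@[reducible] noncomputable def Data.comod : Comod k B (AM π) where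
  coact := D.co
  coassoc := by
    have hinj : Function.Injective (TensorProduct.map (AM π).subtype
        (TensorProduct.map (φ : B →ₐ[k] A).toLinearMap (φ : B →ₐ[k] A).toLinearMap)) := by
      rw [← LinearMap.rTensor_comp_lTensor]
      refine (injective_subtype_rTensor _ _).comp ?_
      apply Module.Flat.lTensor_preserves_injective_linearMap
      rw [← LinearMap.rTensor_comp_lTensor]
      exact (Module.Flat.rTensor_preserves_injective_linearMap _ D.inj).comp (D.injective_lTensor _)
    ext a
    apply hinj
    simp only [LinearMap.comp_apply, LinearEquiv.coe_coe]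
    have h1 : ∀ w : AM π ⊗[k] B, TensorProduct.map (AM π).subtype
        (TensorProduct.map (φ : B →ₐ[k] A).toLinearMap (φ : B →ₐ[k] A).toLinearMap)
        (TensorProduct.assoc k (AM π) B B (D.co.rTensor B w)) =
        TensorProduct.assoc k A A A ((redc k A).rTensor A (jm φ π w)) := by
      intro w
      induction w with
      | zero => simp
      | add x y hx hy => simp only [map_add, hx, hy]
      | tmul x y =>
        rw [LinearMap.rTensor_tmul, jm, TensorProduct.map_tmul, LinearMap.rTensor_tmul,
          Submodule.subtype_apply, ← D.jm_co]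
        generalize D.co x = w
        induction w with
        | zero => simp
        | add x y hx hy => simp only [map_add, add_tmul, hx, hy]
        | tmul x y => rfl
    have h2 : ∀ w : AM π ⊗[k] B, TensorProduct.map (AM π).subtype
        (TensorProduct.map (φ : B →ₐ[k] A).toLinearMap (φ : B →ₐ[k] A).toLinearMap)
        ((comul (R := k) (A := B)).lTensor (AM π) w) =
        (comul (R := k) (A := A)).lTensor A (jm φ π w) := by
      intro w
      induction w with
      | zero => simp
      | add x y hx hy => simp only [map_add, hx, hy]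
      | tmul x y =>
        rw [LinearMap.lTensor_tmul, jm, TensorProduct.map_tmul, TensorProduct.map_tmul,
          LinearMap.lTensor_tmul]
        congr 1
        exact CoalgHomClass.map_comp_comul_apply φ y
    rw [h1, h2, D.jm_co, assoc_redc]
  counit_comp := by
    have hinj : Function.Injective ((AM π).subtype.rTensor k) := injective_subtype_rTensor _ _
    ext a
    apply hinj
    simp only [LinearMap.comp_apply]
    have h1 : ∀ w : AM π ⊗[k] B, (AM π).subtype.rTensor k
        ((counit (R := k) (A := B)).lTensor (AM π) w) =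
        (counit (R := k) (A := A)).lTensor A (jm φ π w) := by
      intro w
      induction w with
      | zero => simp
      | add x y hx hy => simp only [map_add, hx, hy]
      | tmul x y =>
        rw [LinearMap.lTensor_tmul, jm, TensorProduct.map_tmul, LinearMap.rTensor_tmul,
          LinearMap.lTensor_tmul]
        congr 1
        exact (CoalgHomClass.counit_comp_apply φ y).symm
    rw [h1, D.jm_co, redc_apply, map_sub, Coalgebra.lTensor_counit_comul, LinearMap.lTensor_tmul,
      counit_eq_zero a.2, tmul_zero, sub_zero]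
    rfl

lemma Data.sub_mem (b : B) : φ b - algebraMap k A (counit b) ∈ AM π := by
  rw [mem_AM, map_sub, rho_phi D.ker]
  have h1 : π (φ b - algebraMap k A (counit b)) = 0 := by
    change (π : A →ₐ[k] H) (φ b - algebraMap k A (counit b)) = 0
    rw [map_sub, AlgHom.commutes]
    change π (φ b) - _ = 0
    rw [D.ker.comp, sub_self]
  rw [h1, tmul_zero, add_zero, AlgHom.commutes, sub_tmul]
  rfl

/-- `b ↦ φ(b) - ε(b)` -/
noncomputable def Data.psi : B →ₗ[k] AM π where
  toFun b := ⟨φ b - algebraMap k A (counit b), D.sub_mem b⟩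
  map_add' x y := by
    apply Subtype.ext
    change (φ : B →ₐ[k] A) (x + y) - algebraMap k A (counit (x + y)) =
      ((φ : B →ₐ[k] A) x - algebraMap k A (counit x)) + ((φ : B →ₐ[k] A) y - algebraMap k A (counit y))
    rw [map_add, map_add, map_add]
    abel
  map_smul' c x := by
    apply Subtype.ext
    change (φ : B →ₐ[k] A) (c • x) - algebraMap k A (counit (c • x)) =
      c • ((φ : B →ₐ[k] A) x - algebraMap k A (counit x))
    rw [map_smul, map_smul, smul_sub, Algebra.algebraMap_eq_smul_one, Algebra.algebraMap_eq_smul_one,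
      smul_smul, smul_eq_mul]

lemma Data.psi_apply (b : B) : ((D.psi b : AM π) : A) = φ b - algebraMap k A (counit b) := rfl

/-- the subspace of elements in the image of `B` -/
noncomputable def Data.W : Submodule k (AM π) := LinearMap.range D.psi

lemma Data.mem_W (a : AM π) : a ∈ D.W ↔ ∃ b, φ b = (a : A) := by
  constructor
  · rintro ⟨b, rfl⟩
    refine ⟨b - algebraMap k B (counit b), ?_⟩
    rw [D.psi_apply]
    change (φ : B →ₐ[k] A) _ = _
    rw [map_sub, AlgHom.commutes]
    rfl
  · rintro ⟨b, hb⟩
    refine ⟨b, ?_⟩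
    apply Subtype.ext
    rw [D.psi_apply, hb]
    have h1 := counit_eq_zero a.2
    rw [← hb] at h1
    have h2 : counit (R := k) (φ b) = counit (R := k) b := CoalgHomClass.counit_comp_apply φ b
    rw [h2] at h1
    rw [h1, map_zero, sub_zero]

lemma Data.isSubcomod_W :
    @IsSubcomod k B _ _ _ _ (AM π) _ _ D.comod D.W := by
  intro w hw
  obtain ⟨b, rfl⟩ := hw
  change D.co (D.psi b) ∈ _
  let ψ' : B →ₗ[k] D.W := LinearMap.rangeRestrict D.psi
  refine ⟨ψ'.rTensor B (comul (R := k) b), ?_⟩
  apply D.injective_jm
  rw [D.jm_co]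
  have h1 : ∀ z : B ⊗[k] B, jm φ π (D.W.subtype.rTensor B (ψ'.rTensor B z)) =
      TensorProduct.map (φ : B →ₐ[k] A).toLinearMap (φ : B →ₐ[k] A).toLinearMap z -
      (1 : A) ⊗ₜ[k] φ (TensorProduct.lid k B ((counit (R := k) (A := B)).rTensor B z)) := by
    intro z
    induction z with
    | zero =>
      have h3 : φ (0 : B) = 0 := map_zero (φ : B →ₐ[k] A)
      simp only [map_zero, h3, tmul_zero, sub_zero]
    | add x y hx hy =>
      have h3 : ∀ u v : B, φ (u + v) = φ u + φ v := fun u v => map_add (φ : B →ₐ[k] A) u v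
      simp only [map_add, hx, hy, h3, tmul_add]
      abel
    | tmul x y =>
      rw [LinearMap.rTensor_tmul, LinearMap.rTensor_tmul, LinearMap.rTensor_tmul, jm,
        TensorProduct.map_tmul, TensorProduct.map_tmul, TensorProduct.lid_tmul]
      have h3 : (AM π).subtype (D.W.subtype (ψ' x)) = φ x - algebraMap k A (counit x) := rfl
      have h4 : φ (counit (R := k) x • y) = counit (R := k) x • φ y :=
        map_smul (φ : B →ₐ[k] A) _ _
      rw [h3, h4, sub_tmul, Algebra.algebraMap_eq_smul_one, smul_tmul]
      rfl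
  have h5 : comul (R := k) (φ b) = TensorProduct.map (φ : B →ₐ[k] A).toLinearMap
      (φ : B →ₐ[k] A).toLinearMap (comul (R := k) b) :=
    (CoalgHomClass.map_comp_comul_apply φ b).symm
  rw [h1, Coalgebra.rTensor_counit_comul, redc_apply, TensorProduct.lid_tmul, one_smul, D.psi_apply,
    map_sub, tmul_sub, ← h5, Algebra.algebraMap_eq_smul_one, map_smul, Bialgebra.comul_one,
    Algebra.TensorProduct.one_def, tmul_smul]
  abel

/-- **A comodule complement** when `B` has a normalized invariant integral. -/
theorem Data.exists_compl {α : B →ₗ[k] k} (hα : K191.Integral.IsInt α) (h1 : α 1 = 1) :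
    ∃ T : Submodule k (AM π), IsCompl D.W T ∧
      ∀ t ∈ T, ∃ w : T ⊗[k] B, redc k A (t : A) =
        TensorProduct.map (AM π).subtype (φ : B →ₐ[k] A).toLinearMap (T.subtype.rTensor B w) := by
  obtain ⟨T, hT, hc⟩ := @K191.Integral.semisimple_of_isInt k B _ _ _ (AM π) _ _ D.comod α hα h1 D.W
    D.isSubcomod_W
  refine ⟨T, hc, fun t ht => ?_⟩
  obtain ⟨w, hw⟩ := hT t ht
  refine ⟨w, ?_⟩
  rw [hw]
  exact (D.jm_co t).symm

end K206.AffComod
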