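import Groth.Agent.PrincBund.K206.KerPts
import Groth.Agent.HopfRep.K191.Integral

/-!
# The module of additive functions along the kernel

`π : A → H` the Hopf cokernel of `φ : B → A` (faithfully flat).  `AM π` is the space of `a ∈ A` with
`ρ(a) = a ⊗ 1 + 1 ⊗ π(a)`.  It is a `B`-comodule under `a ↦ Δ(a) - 1 ⊗ a`.
-/

set_option autoImplicit false

universe u

open TensorProduct WithConv Coalgebra HopfRep
open Groth.Agent.Books.DynBasic K206.KerPts

namespace K206.AffMod

variable {k : Type u} [Field k] {A B H : Type u} [CommRing A] [HopfAlgebra k A] [CommRing B]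
  [HopfAlgebra k B] [CommRing H] [HopfAlgebra k H]

section lin

variable (k)

/-- `x ↦ x ⊗ 1` -/
noncomputable abbrev inl (A H : Type u) [CommRing A] [Algebra k A] [CommRing H] [Algebra k H] :
    A →ₗ[k] A ⊗[k] H := (TensorProduct.mk k A H).flip 1

/-- `x ↦ 1 ⊗ x` -/
noncomputable abbrev inr (A H : Type u) [CommRing A] [Algebra k A] [CommRing H] [Algebra k H] :
    H →ₗ[k] A ⊗[k] H := TensorProduct.mk k A H 1

end lin

/-- `a ↦ ρ(a) - a ⊗ 1` -/
noncomputable def Fm (π : A →ₐc[k] H) : A →ₗ[k] A ⊗[k] H := (rho π).toLinearMap - inl k A H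

/-- `a ↦ ρ(a) - a ⊗ 1 - 1 ⊗ π(a)` -/
noncomputable def Lm (π : A →ₐc[k] H) : A →ₗ[k] A ⊗[k] H :=
  (rho π).toLinearMap - inl k A H - inr k A H ∘ₗ (π : A →ₐ[k] H).toLinearMap

/-- functions which are additive along the kernel -/
noncomputable def AM (π : A →ₐc[k] H) : Submodule k A := LinearMap.ker (Lm π)

lemma mem_AM (π : A →ₐc[k] H) (a : A) :
    a ∈ AM π ↔ rho π a = a ⊗ₜ[k] (1 : H) + (1 : A) ⊗ₜ[k] π a := by
  rw [AM, LinearMap.mem_ker, Lm]
  simp only [LinearMap.sub_apply, LinearMap.comp_apply, AlgHom.toLinearMap_apply]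
  change rho π a - a ⊗ₜ[k] (1 : H) - (1 : A) ⊗ₜ[k] π a = 0 ↔ _
  rw [sub_sub, sub_eq_zero]

lemma counit_rho (π : A →ₐc[k] H) (a : A) :
    TensorProduct.lid k H ((counit (R := k) (A := A)).rTensor H (rho π a)) = π a := by
  have h := Coalgebra.rTensor_counit_comul (R := k) a
  have h2 : ∀ z : A ⊗[k] A, TensorProduct.lid k H ((counit (R := k) (A := A)).rTensor H
      (TensorProduct.map LinearMap.id (π : A →ₐ[k] H).toLinearMap z)) =
      π (TensorProduct.lid k A ((counit (R := k) (A := A)).rTensor A z)) := by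
    intro z
    induction z with
    | zero => simp
    | add x y hx hy => simp only [map_add, hx, hy]
    | tmul x y =>
      simp only [TensorProduct.map_tmul, LinearMap.rTensor_tmul, TensorProduct.lid_tmul,
        LinearMap.id_apply]
      exact (map_smul (π : A →ₐ[k] H) _ _).symm
  rw [rho_apply, h2, h]
  simp

lemma counit_eq_zero {π : A →ₐc[k] H} {a : A} (ha : a ∈ AM π) : counit (R := k) a = 0 := by
  have h1 := counit_rho π a
  rw [(mem_AM π a).1 ha, map_add, map_add, LinearMap.rTensor_tmul, LinearMap.rTensor_tmul,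
    TensorProduct.lid_tmul, TensorProduct.lid_tmul, Bialgebra.counit_one, one_smul] at h1
  have h2 : counit (R := k) a • (1 : H) = 0 := by simpa using h1
  have h3 := congrArg (counit (R := k) (A := H)) h2
  rw [map_smul, Bialgebra.counit_one, map_zero, smul_eq_mul, mul_one] at h3
  exact h3

/-- `a(f n) = a(f) + a(n)` -/
lemma mul_kernel_apply {R : Type u} [CommRing R] [Algebra k R] {π : A →ₐc[k] H} {a : A}
    (ha : a ∈ AM π) (f : WithConv (A →ₐ[k] R)) (y : H →ₐ[k] R) :
    (f * toConv (y.comp (π : A →ₐ[k] H))).ofConv a = f.ofConv a + y (π a) := by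
  have h1 := lift_rho π f.ofConv y a
  rw [(mem_AM π a).1 ha] at h1
  simp only [map_add, Algebra.TensorProduct.lift_tmul, map_one, mul_one, one_mul] at h1
  exact h1.symm

/-- the reduced coaction `a ↦ Δ(a) - 1 ⊗ a` -/
noncomputable def redc (k A : Type u) [Field k] [CommRing A] [HopfAlgebra k A] : A →ₗ[k] A ⊗[k] A :=
  comul - inr k A A

lemma redc_apply (a : A) : redc k A a = comul (R := k) a - (1 : A) ⊗ₜ[k] a := rfl

lemma redc_one : redc k A 1 = 0 := by
  rw [redc_apply, Bialgebra.comul_one, Algebra.TensorProduct.one_def, sub_self]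

lemma assoc_redc (a : A) : TensorProduct.assoc k A A A ((redc k A).rTensor A (redc k A a)) =
    (comul (R := k) (A := A)).lTensor A (redc k A a) := by
  have h1 : ∀ z : A ⊗[k] A, TensorProduct.assoc k A A A ((redc k A).rTensor A z) =
      TensorProduct.assoc k A A A ((comul (R := k) (A := A)).rTensor A z) - (1 : A) ⊗ₜ[k] z := by
    intro z
    induction z with
    | zero => simp
    | add x y hx hy => simp only [map_add, hx, hy, tmul_add]; abel
    | tmul x y =>
      rw [LinearMap.rTensor_tmul, LinearMap.rTensor_tmul, redc_apply, sub_tmul, map_sub,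
        TensorProduct.assoc_tmul]
  conv_lhs => rw [redc_apply]
  rw [map_sub, map_sub, h1, LinearMap.rTensor_tmul, redc_one, zero_tmul, map_zero, sub_zero,
    Coalgebra.coassoc_apply, redc_apply, map_sub, LinearMap.lTensor_tmul]

section incl

variable {φ : B →ₐc[k] A} {π : A →ₐc[k] H}

/-- right invariance of the reduced coaction -/
lemma lTensor_Fm_redc {a : A} (ha : a ∈ AM π) : (Fm π).lTensor A (redc k A a) = 0 := by
  have h1 : ∀ z : A ⊗[k] A, (Fm π).lTensor A z =
      ((π : A →ₐ[k] H).toLinearMap.lTensor A).lTensor A ((comul (R := k) (A := A)).lTensor A z) -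
        TensorProduct.assoc k A A H (z ⊗ₜ[k] (1 : H)) := by
    intro z
    induction z with
    | zero => simp
    | add x y hx hy => simp only [map_add, hx, hy, add_tmul]; abel
    | tmul x y =>
      rw [LinearMap.lTensor_tmul, Fm, LinearMap.sub_apply, tmul_sub, LinearMap.lTensor_tmul,
        LinearMap.lTensor_tmul, TensorProduct.assoc_tmul]
      rfl
  have h2 : ∀ z : A ⊗[k] A,
      ((π : A →ₐ[k] H).toLinearMap.lTensor A).lTensor A
        (TensorProduct.assoc k A A A ((comul (R := k) (A := A)).rTensor A z)) =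
      TensorProduct.assoc k A A H ((comul (R := k) (A := A)).rTensor H
        ((π : A →ₐ[k] H).toLinearMap.lTensor A z)) := by
    intro z
    induction z with
    | zero => simp
    | add x y hx hy => simp only [map_add, hx, hy]
    | tmul x y =>
      simp only [LinearMap.rTensor_tmul, LinearMap.lTensor_tmul]
      generalize comul (R := k) x = w
      induction w with
      | zero => simp
      | add x y hx hy => simp only [map_add, add_tmul, hx, hy]
      | tmul x x' => simp
  have h3 : (π : A →ₐ[k] H).toLinearMap.lTensor A (comul (R := k) a) =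
      a ⊗ₜ[k] (1 : H) + (1 : A) ⊗ₜ[k] π a := (mem_AM π a).1 ha
  rw [redc_apply, map_sub, h1 (comul (R := k) a), ← Coalgebra.coassoc_apply, h2, h3, map_add,
    map_add, LinearMap.rTensor_tmul, LinearMap.rTensor_tmul, Bialgebra.comul_one,
    Algebra.TensorProduct.one_def, TensorProduct.assoc_tmul, LinearMap.lTensor_tmul, Fm,
    LinearMap.sub_apply, AlgHom.toLinearMap_apply, (mem_AM π a).1 ha]
  change _ + (1 : A) ⊗ₜ[k] ((1 : A) ⊗ₜ[k] π a) - _ -
    (1 : A) ⊗ₜ[k] (a ⊗ₜ[k] (1 : H) + (1 : A) ⊗ₜ[k] π a - a ⊗ₜ[k] (1 : H)) = 0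
  rw [add_sub_cancel_left]
  abel

variable (hk : IsHopfKer φ π)

include hk in
/-- the kernel is normal -/
lemma exists_conj {R : Type u} [CommRing R] [Algebra k R] (g' nn : WithConv (A →ₐ[k] R))
    (hnn : resPt φ nn = 1) : ∃ y : H →ₐ[k] R, nn * g' = g' * toConv (y.comp (π : A →ₐ[k] H)) ∧
      ∀ g : WithConv (A →ₐ[k] R), g * nn * g' = g * g' * toConv (y.comp (π : A →ₐ[k] H)) := by
  obtain ⟨y, hy⟩ := hk.exists_factor_one (g'⁻¹ * nn * g') (by
    rw [map_mul, map_mul, map_inv, hnn, mul_one, inv_mul_cancel])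
  refine ⟨y, ?_, fun g => ?_⟩
  · rw [← hy]
    group
  · rw [← hy]
    group

include hk in
/-- the reduced coaction has values in the additive functions -/
lemma rTensor_Lm_redc {a : A} (ha : a ∈ AM π) : (Lm π).rTensor A (redc k A a) = 0 := by
  let R : Type u := (A ⊗[k] H) ⊗[k] A
  let g : WithConv (A →ₐ[k] (A ⊗[k] H) ⊗[k] A) := toConv
    ((Algebra.TensorProduct.includeLeft : A ⊗[k] H →ₐ[k] (A ⊗[k] H) ⊗[k] A).comp
      (Algebra.TensorProduct.includeLeft : A →ₐ[k] A ⊗[k] H))
  let n : H →ₐ[k] (A ⊗[k] H) ⊗[k] A :=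
    (Algebra.TensorProduct.includeLeft : A ⊗[k] H →ₐ[k] (A ⊗[k] H) ⊗[k] A).comp
      (Algebra.TensorProduct.includeRight : H →ₐ[k] A ⊗[k] H)
  let g' : WithConv (A →ₐ[k] (A ⊗[k] H) ⊗[k] A) := toConv
    (Algebra.TensorProduct.includeRight : A →ₐ[k] (A ⊗[k] H) ⊗[k] A)
  let nn : WithConv (A →ₐ[k] (A ⊗[k] H) ⊗[k] A) := toConv (n.comp (π : A →ₐ[k] H))
  have hgn : ∀ x, (g * nn).ofConv x = (rho π x) ⊗ₜ[k] (1 : A) := by
    intro x
    have h1 := lift_rho π g.ofConv n x
    rw [← h1]
    generalize rho π x = w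
    induction w with
    | zero => simp
    | add x y hx hy => simp only [map_add, hx, hy, add_tmul]
    | tmul x y =>
      rw [Algebra.TensorProduct.lift_tmul]
      change ((x ⊗ₜ[k] (1 : H)) ⊗ₜ[k] (1 : A)) * (((1 : A) ⊗ₜ[k] y) ⊗ₜ[k] (1 : A)) = _
      rw [Algebra.TensorProduct.tmul_mul_tmul, Algebra.TensorProduct.tmul_mul_tmul, mul_one, one_mul,
        mul_one]
  have key : ∀ z : A ⊗[k] A, (Lm π).rTensor A z =
      Algebra.TensorProduct.lift (g * nn).ofConv g'.ofConv (fun _ _ => Commute.all _ _) z -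
      Algebra.TensorProduct.lift g.ofConv g'.ofConv (fun _ _ => Commute.all _ _) z -
      Algebra.TensorProduct.lift nn.ofConv g'.ofConv (fun _ _ => Commute.all _ _) z := by
    intro z
    induction z with
    | zero => simp
    | add x y hx hy => simp only [map_add, hx, hy]; abel
    | tmul x y =>
      rw [Algebra.TensorProduct.lift_tmul, Algebra.TensorProduct.lift_tmul,
        Algebra.TensorProduct.lift_tmul, hgn, LinearMap.rTensor_tmul]
      have e1 : g.ofConv x = (x ⊗ₜ[k] (1 : H)) ⊗ₜ[k] (1 : A) := rfl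
      have e2 : nn.ofConv x = ((1 : A) ⊗ₜ[k] π x) ⊗ₜ[k] (1 : A) := rfl
      have e3 : g'.ofConv y = (1 : A ⊗[k] H) ⊗ₜ[k] y := rfl
      rw [e1, e2, e3, Algebra.TensorProduct.tmul_mul_tmul, Algebra.TensorProduct.tmul_mul_tmul,
        Algebra.TensorProduct.tmul_mul_tmul, mul_one, mul_one, mul_one, one_mul, ← sub_tmul,
        ← sub_tmul]
      rfl
  -- conjugate the point of the kernel
  have hnn : resPt φ nn = 1 := by
    apply WithConv.ofConv_injective
    ext b
    rw [resPt_apply, one_ofConv_apply]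
    change n (π (φ b)) = _
    rw [hk.comp, AlgHom.commutes]
  obtain ⟨y, h2, h1'⟩ := exists_conj hk g' nn hnn
  have h1 := h1' g
  have h3 := mul_kernel_apply ha (g * g') y
  have h4 := mul_kernel_apply ha g' y
  rw [← h1] at h3
  rw [← h2] at h4
  rw [redc_apply, map_sub, key (comul (R := k) a), ← mul_ofConv_apply, ← mul_ofConv_apply,
    ← mul_ofConv_apply, h3, h4, LinearMap.rTensor_tmul]
  have h5 : Lm π 1 = - ((1 : A) ⊗ₜ[k] (1 : H)) := by
    rw [Lm]
    change rho π 1 - (1 : A) ⊗ₜ[k] (1 : H) - (1 : A) ⊗ₜ[k] (π : A →ₐ[k] H) 1 = _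
    rw [map_one, map_one, Algebra.TensorProduct.one_def]
    abel
  have h6 : g'.ofConv a = ((1 : A) ⊗ₜ[k] (1 : H)) ⊗ₜ[k] a := rfl
  rw [h5, neg_tmul, ← h6]
  abel

end incl

end K206.AffMod
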