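import Mathlib.Algebra.Polynomial.AlgebraMap
import Mathlib.Algebra.Polynomial.Coeff
import Mathlib.Algebra.Polynomial.Degree.Lemmas
import Mathlib.Data.Nat.Choose.Sum
import Mathlib.Algebra.CharZero.Defs
import Mathlib.Tactic.LinearCombination
import Mathlib.Tactic.FieldSimp

/-!
# The Dixmier map of a locally nilpotent derivation with a slice
-/

set_option autoImplicit false

universe u v

open Polynomial Finset

namespace K206.Dixmier

variable {k : Type u} {A : Type v} [Field k] [CommRing A] [Algebra k A] (D : A →ₗ[k] A)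

/-- The iterated Leibniz rule. -/
lemma pow_mul (hD : ∀ a b, D (a * b) = a * D b + b * D a) (n : ℕ) (a b : A) :
    (D ^ n) (a * b) = ∑ ij ∈ antidiagonal n, n.choose ij.1 • ((D ^ ij.1) a * (D ^ ij.2) b) := by
  induction n with
  | zero => simp
  | succ n ih =>
    rw [Finset.sum_antidiagonal_choose_succ_nsmul (fun i j => (D ^ i) a * (D ^ j) b), pow_succ',
      Module.End.mul_apply, ih, map_sum, ← Finset.sum_add_distrib]
    refine Finset.sum_congr rfl fun ij hij => ?_
    have h1 : n.choose ij.2 = n.choose ij.1 := by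
      rw [← Finset.mem_antidiagonal.1 hij]
      exact (Nat.choose_symm_add).symm
    rw [map_nsmul, hD, h1, ← nsmul_add, pow_succ', pow_succ', Module.End.mul_apply,
      Module.End.mul_apply]
    congr 1
    ring

/-- The divided powers of the derivation. -/
noncomputable def e (n : ℕ) : A →ₗ[k] A := ((n.factorial : k)⁻¹) • D ^ n

lemma e_apply (n : ℕ) (a : A) : e D n a = ((n.factorial : k)⁻¹) • (D ^ n) a := rfl

variable [CharZero k]

lemma e_mul (hD : ∀ a b, D (a * b) = a * D b + b * D a) (n : ℕ) (a b : A) :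
    e D n (a * b) = ∑ ij ∈ antidiagonal n, e D ij.1 a * e D ij.2 b := by
  rw [e_apply, pow_mul D hD, Finset.smul_sum]
  refine Finset.sum_congr rfl fun ij hij => ?_
  rw [e_apply, e_apply, smul_mul_smul_comm, ← Nat.cast_smul_eq_nsmul k, smul_smul]
  congr 1
  rw [← Finset.mem_antidiagonal.1 hij]
  have h1 : ((ij.1 + ij.2).factorial : k) ≠ 0 := Nat.cast_ne_zero.2 (Nat.factorial_ne_zero _)
  have h2 : (ij.1.factorial : k) ≠ 0 := Nat.cast_ne_zero.2 (Nat.factorial_ne_zero _)
  have h3 : (ij.2.factorial : k) ≠ 0 := Nat.cast_ne_zero.2 (Nat.factorial_ne_zero _)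
  have h4 : (((ij.1 + ij.2).choose ij.1 : ℕ) : k) * (ij.1.factorial : k) * (ij.2.factorial : k) =
      ((ij.1 + ij.2).factorial : k) := by
    rw [← Nat.cast_mul, ← Nat.cast_mul, Nat.choose_symm_add,
      Nat.add_choose_mul_factorial_mul_factorial]
  field_simp
  rw [← h4]

omit [CharZero k] in
lemma pow_eq_zero_of_le {a : A} {n m : ℕ} (h : (D ^ n) a = 0) (hnm : n ≤ m) : (D ^ m) a = 0 := by
  obtain ⟨c, rfl⟩ := Nat.exists_eq_add_of_le hnm
  rw [add_comm, pow_add, Module.End.mul_apply, h, map_zero]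

omit [CharZero k] in
lemma exists_poly (hn : ∀ a, ∃ n, (D ^ n) a = 0) (a : A) : ∃ p : A[X], ∀ n, p.coeff n = e D n a := by
  obtain ⟨N, hN⟩ := hn a
  refine ⟨∑ i ∈ Finset.range N, Polynomial.monomial i (e D i a), fun n => ?_⟩
  rw [Polynomial.finsetSum_coeff]
  simp only [Polynomial.coeff_monomial]
  rw [Finset.sum_ite_eq' (Finset.range N) n (fun i => e D i a)]
  split_ifs with h
  · rfl
  · rw [Finset.mem_range, not_lt] at h
    rw [e_apply, pow_eq_zero_of_le D hN h, smul_zero]

/-- The polynomial `∑ Dⁿ(a) Xⁿ / n!`. -/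
noncomputable def F (hn : ∀ a, ∃ n, (D ^ n) a = 0) (a : A) : A[X] := (exists_poly D hn a).choose

lemma coeff_F (hn : ∀ a, ∃ n, (D ^ n) a = 0) (a : A) (n : ℕ) : (F D hn a).coeff n = e D n a :=
  (exists_poly D hn a).choose_spec n

omit [CharZero k] in
lemma map_one_eq_zero (hD : ∀ a b, D (a * b) = a * D b + b * D a) : D 1 = 0 := by
  have h := hD 1 1
  rw [one_mul, one_mul] at h
  exact left_eq_add.1 h

/-- The exponential `a ↦ ∑ Dⁿ(a) Xⁿ / n!`. -/
noncomputable def expo (hD : ∀ a b, D (a * b) = a * D b + b * D a) (hn : ∀ a, ∃ n, (D ^ n) a = 0) :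
    A →ₐ[k] A[X] :=
  AlgHom.ofLinearMap
    { toFun := F D hn
      map_add' := fun a b => by
        ext n
        rw [coeff_F, Polynomial.coeff_add, coeff_F, coeff_F, map_add]
      map_smul' := fun c a => by
        ext n
        rw [coeff_F, RingHom.id_apply, Polynomial.coeff_smul, coeff_F, map_smul] }
    (by
      ext n
      change (F D hn 1).coeff n = _
      rw [coeff_F, Polynomial.coeff_one, e_apply]
      rcases n with _ | n
      · simp
      · rw [pow_succ, Module.End.mul_apply, map_one_eq_zero D hD, map_zero, smul_zero, if_neg]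
        omega)
    (fun a b => by
      ext n
      change (F D hn (a * b)).coeff n = (F D hn a * F D hn b).coeff n
      rw [coeff_F, e_mul D hD, Polynomial.coeff_mul]
      refine Finset.sum_congr rfl fun ij _ => ?_
      rw [coeff_F, coeff_F])

lemma coeff_expo (hD : ∀ a b, D (a * b) = a * D b + b * D a) (hn : ∀ a, ∃ n, (D ^ n) a = 0)
    (a : A) (n : ℕ) : (expo D hD hn a).coeff n = e D n a := coeff_F D hn a n

/-- The Dixmier map `a ↦ ∑ Dⁿ(a) (-x)ⁿ / n!`. -/
noncomputable def dix (hD : ∀ a b, D (a * b) = a * D b + b * D a) (hn : ∀ a, ∃ n, (D ^ n) a = 0)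
    (x : A) : A →ₐ[k] A :=
  ((Polynomial.aeval (R := A) (-x)).restrictScalars k).comp (expo D hD hn)

lemma dix_eq_sum (hD : ∀ a b, D (a * b) = a * D b + b * D a) (hn : ∀ a, ∃ n, (D ^ n) a = 0)
    (x a : A) {N : ℕ} (hN : (D ^ N) a = 0) :
    dix D hD hn x a = ∑ n ∈ Finset.range (N + 1), e D n a * (-x) ^ n := by
  have h1 : (expo D hD hn a).natDegree < N + 1 := by
    rw [Nat.lt_succ_iff, Polynomial.natDegree_le_iff_coeff_eq_zero]
    intro n hn'
    rw [coeff_expo, e_apply, pow_eq_zero_of_le D hN hn'.le, smul_zero]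
  change Polynomial.aeval (-x) (expo D hD hn a) = _
  rw [Polynomial.aeval_def, Algebra.algebraMap_self, Polynomial.eval₂_id,
    Polynomial.eval_eq_sum_range' h1]
  refine Finset.sum_congr rfl fun n _ => ?_
  rw [coeff_expo]

/-- The Dixmier map kills the slice. -/
lemma dix_slice (hD : ∀ a b, D (a * b) = a * D b + b * D a) (hn : ∀ a, ∃ n, (D ^ n) a = 0)
    (x : A) (hx : D x = 1) : dix D hD hn x x = 0 := by
  have h1 : (D ^ 2) x = 0 := by
    rw [pow_two, Module.End.mul_apply, hx, map_one_eq_zero D hD]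
  rw [dix_eq_sum D hD hn x x h1, Finset.sum_range_succ, Finset.sum_range_succ,
    Finset.sum_range_one, e_apply, e_apply, e_apply, h1]
  simp [hx]

end K206.Dixmier
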