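import Groth.Agent.PrincBund.K206.UnipQuot
import Groth.Agent.HopfRep.K191.QuotAff
import Mathlib.RingTheory.Flat.FaithfullyFlat.Algebra

/-!
# A Galois extension gives the quotient; quotients by linearly reductive subgroups exist
-/

set_option autoImplicit false

universe u

open CategoryTheory MonoidalCategory CartesianMonoidalCategory MonObj GrpObj AlgebraicGeometry
open TensorProduct WithConv HopfRep
open Groth.Agent.Books.AffBridge Groth.Agent.Books.AffBridge2

namespace K206.GalQuot

open K206.KerPts K206.UnipQuot K197.Fppf K197.QuotPts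
open K191.QuotRing K191.RedGalois

variable {k : Type u} [Field k]

/-- A subring over which a noetherian ring is faithfully flat is noetherian. -/
lemma isNoetherianRing_of_faithfullyFlat (B A : Type u) [CommRing B] [CommRing A] [Algebra B A]
    [Module.FaithfullyFlat B A] [IsNoetherianRing A] : IsNoetherianRing B := by
  rw [isNoetherianRing_iff, isNoetherian_iff']
  have h1 : Function.Injective (fun I : Ideal B => I.map (algebraMap B A)) := by
    intro I J hIJ
    have h2 : ∀ I : Ideal B, (I.map (algebraMap B A)).comap (algebraMap B A) = I :=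
      fun I => Ideal.comap_map_eq_self_of_faithfullyFlat I
    rw [← h2 I, ← h2 J]
    exact congrArg (fun K => Ideal.comap (algebraMap B A) K) hIJ
  have h3 : Monotone (fun I : Ideal B => I.map (algebraMap B A)) := fun I J h => Ideal.map_mono h
  have h4 : StrictMono (fun I : Ideal B => I.map (algebraMap B A)) := h3.strictMono_of_injective h1
  exact h4.wellFoundedGT

variable {A C : Type u} [CommRing A] [HopfAlgebra k A] [CommRing C] [HopfAlgebra k C]

/-- **A Galois extension gives the quotient.** -/
theorem isQuotient_of_galois (ψ : A →ₐc[k] C) (hψ : Function.Surjective ψ)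
    {B : Type u} [CommRing B] [Algebra k B] [Algebra B A] [IsScalarTower k B A]
    [Module.FaithfullyFlat B A] [Algebra.FinitePresentation B A] (h : K191.Galois.Coinv ψ B)
    (hb : Function.Bijective (K191.Galois.can h)) :
    RedSub.IsQuotient (specMap k (ψ : A →ₐ[k] C)) (specMap k (IsScalarTower.toAlgHom k B A)) := by
  have hcov : IsCov (specMap k (IsScalarTower.toAlgHom k B A)) := by
    have hff : Flat (specMap k (IsScalarTower.toAlgHom k B A)).left ∧
        Surjective (specMap k (IsScalarTower.toAlgHom k B A)).left := by
      change Flat (Spec.map (CommRingCat.ofHom (algebraMap B A))) ∧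
        Surjective (Spec.map (CommRingCat.ofHom (algebraMap B A)))
      rw [flat_and_surjective_SpecMap_iff]
      exact RingHom.faithfullyFlat_algebraMap_iff.2 inferInstance
    refine ⟨hff.2, hff.1, ?_⟩
    change LocallyOfFinitePresentation (Spec.map (CommRingCat.ofHom (algebraMap B A)))
    rw [HasRingHomProperty.Spec_iff (P := @LocallyOfFinitePresentation)]
    exact RingHom.finitePresentation_algebraMap.2 inferInstance
  have hcl : IsClosedImmersion (specMap k (ψ : A →ₐ[k] C)).left :=
    (isClosedImmersion_specMap_iff k _).2 hψ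
  have hmono : Mono (specMap k (ψ : A →ₐ[k] C)) := by
    have : Mono (specMap k (ψ : A →ₐ[k] C)).left := inferInstance
    exact Over.mono_of_mono_left _
  -- invariance
  have h1 : ∀ (R : Type u) [CommRing R] [Algebra k R] (g : SpecOver k R ⟶ SpecOver k A)
      (y : SpecOver k R ⟶ SpecOver k C),
      (g * (y ≫ specMap k (ψ : A →ₐ[k] C))) ≫ specMap k (IsScalarTower.toAlgHom k B A) =
        g ≫ specMap k (IsScalarTower.toAlgHom k B A) := by
    intro R _ _ g y
    have hg := specMap_specPreimage k g
    have hy := specMap_specPreimage k y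
    have e2 : y ≫ specMap k (ψ : A →ₐ[k] C) =
        specMap k (resPt ψ (toConv (specPreimage k y))).ofConv := by
      conv_lhs => rw [← hy]
      rw [← specMap_comp]
      rfl
    have e3 : g = specMap k (toConv (specPreimage k g)).ofConv := hg.symm
    rw [e2]
    conv_lhs => rw [e3]
    conv_rhs => rw [e3]
    rw [← specMap_mul, ← specMap_comp, ← specMap_comp]
    congr 1
    ext b
    have e4 := lift_rho ψ (specPreimage k g) (specPreimage k y) (algebraMap B A b)
    have e5 : rho ψ (algebraMap B A b) = algebraMap B A b ⊗ₜ[k] (1 : C) := h b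
    rw [e5, Algebra.TensorProduct.lift_tmul, map_one, _root_.mul_one] at e4
    exact e4.symm
  have h2 : ((fst (SpecOver k A) (SpecOver k C)) * ((snd (SpecOver k A) (SpecOver k C)) ≫
      specMap k (ψ : A →ₐ[k] C))) ≫ specMap k (IsScalarTower.toAlgHom k B A) =
      (fst (SpecOver k A) (SpecOver k C)) ≫ specMap k (IsScalarTower.toAlgHom k B A) := by
    have := isAffine_tensor (SpecOver k A) (SpecOver k C)
    apply eq_of_affine_points
    intro R _ _ t
    rw [← Category.assoc, MonObj.comp_mul, ← Category.assoc t, h1, Category.assoc]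
  refine isQuotient_of_pts hcov ?_ ?_
  · intro T g y
    have h3 := congrArg (fun z => lift g y ≫ z) h2
    simp only [← Category.assoc, MonObj.comp_mul, lift_fst, lift_snd] at h3
    exact h3
  · intro T g g' hgg
    obtain ⟨γ, hγ⟩ := exists_pt_of_bijective h hb
    have hpb : IsPullback (specMap k (iL k A B)) (specMap k (iR k A B))
        (specMap k (IsScalarTower.toAlgHom k B A)) (specMap k (IsScalarTower.toAlgHom k B A)) := by
      apply isPullback_specMap
      exact CommRingCat.isPushout_tensorProduct B A A
    obtain ⟨w, hw1, hw2⟩ := hpb.exists_lift g g' hgg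
    refine ⟨w ≫ specMap k γ, ?_⟩
    have h3 := congrArg (fun z : WithConv (A →ₐ[k] A ⊗[B] A) => w ≫ specMap k z.ofConv) hγ
    simp only [specMap_mul, MonObj.comp_mul] at h3
    rw [← hw1, ← hw2, Category.assoc, ← specMap_comp]
    exact h3

/-- **The quotient by a linearly reductive closed subgroup exists and is affine.** -/
theorem exists_quotient_red [Algebra.FiniteType k A] (ψ : A →ₐc[k] C) (hψ : Function.Surjective ψ)
    (hC : IsLinearlyReductive k C) :
    ∃ (Q : Over (Spec (CommRingCat.of k))) (q : SpecOver k A ⟶ Q),
      RedSub.IsQuotient (specMap k (ψ : A →ₐ[k] C)) q ∧ IsAffine Q.left := by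
  obtain ⟨β, hβ, h1⟩ := K191.LInt.exists_isLInt hC
  have hff := K191.RedGalois.faithfullyFlat (ψ := ψ) hβ h1 hψ
  have hNA : IsNoetherianRing A := Algebra.FiniteType.isNoetherianRing k A
  have hNB : IsNoetherianRing (coinvSub ψ) := isNoetherianRing_of_faithfullyFlat (coinvSub ψ) A
  have hft : Algebra.FiniteType (coinvSub ψ) A := Algebra.FiniteType.of_restrictScalars_finiteType k _ _
  have hfp : Algebra.FinitePresentation (coinvSub ψ) A :=
    Algebra.FinitePresentation.of_finiteType.1 inferInstance
  refine ⟨_, _, isQuotient_of_galois ψ hψ (K191.RedGalois.coinv_coinvSub ψ)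
    ⟨K191.RedGalois.can_injective hβ h1 hψ,
      K191.RedGalois.can_surjective (K191.RedGalois.coinv_coinvSub ψ) hψ⟩, ?_⟩
  exact inferInstanceAs (IsAffine (Spec (CommRingCat.of (coinvSub ψ))))

end K206.GalQuot
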