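import Groth.Agent.Books.DynBasic
import Groth.Agent.SGA1.K151.Amitsur
import Groth.Agent.S4104
import Groth.Agent.MiscA.HopfFlat

/-!
# Points of the kernel of a homomorphism of affine groups; additive one-cocycles

`φ : B → A` is an injective homomorphism of commutative Hopf algebras over a field and `π : A → H` its
Hopf cokernel (`H` is the coordinate ring of the kernel of `Spec A → Spec B`).

* `exists_factor`: two points of `Spec A` with the same image in `Spec B` differ by a point of the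
  kernel;
* `mem_range_of_rho`: the right `H`-invariants of `A` are `B`;
* `exists_lift`: every primitive element of `H` lifts to an element `θ` of `A` with
  `θ(g n) = θ(g) + p(n)`.
-/

set_option autoImplicit false

universe u

open TensorProduct WithConv Coalgebra
open Groth.Agent.Books.DynBasic

namespace K206.KerPts

section basic

variable {k : Type u} [Field k] {A B H : Type u} [CommRing A] [HopfAlgebra k A] [CommRing B]
  [HopfAlgebra k B] [CommRing H] [HopfAlgebra k H]

/-- `π : A → H` is the coordinate map of the kernel of `Spec A → Spec B`. -/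
structure IsHopfKer (φ : B →ₐc[k] A) (π : A →ₐc[k] H) : Prop where
  surj : Function.Surjective π
  ker : ∀ a, π a = 0 → a ∈ Ideal.map (φ : B →+* A) (RingHom.ker (Bialgebra.counitAlgHom k B))
  comp : ∀ b, π (φ b) = algebraMap k H (counit b)

/-- the right coaction of the kernel -/
noncomputable def rho (π : A →ₐc[k] H) : A →ₐ[k] A ⊗[k] H :=
  (Algebra.TensorProduct.map (AlgHom.id k A) (π : A →ₐ[k] H)).comp (Bialgebra.comulAlgHom k A)

lemma rho_apply (π : A →ₐc[k] H) (a : A) :
    rho π a = TensorProduct.map LinearMap.id (π : A →ₐ[k] H).toLinearMap (comul a) := rfl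

variable {R : Type u} [CommRing R] [Algebra k R]

lemma mul_ofConv_apply (f g : WithConv (A →ₐ[k] R)) (a : A) :
    (f * g).ofConv a = Algebra.TensorProduct.lift f.ofConv g.ofConv (fun _ _ => Commute.all _ _)
      (comul (R := k) a) := AlgHom.convMul_apply f g a

lemma lift_rho (π : A →ₐc[k] H) (f : A →ₐ[k] R) (h : H →ₐ[k] R) (a : A) :
    Algebra.TensorProduct.lift f h (fun _ _ => Commute.all _ _) (rho π a) =
      (toConv f * toConv (h.comp (π : A →ₐ[k] H))).ofConv a := by
  rw [mul_ofConv_apply, rho]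
  simp only [AlgHom.comp_apply, Bialgebra.comulAlgHom_apply]
  generalize comul (R := k) a = z
  induction z with
  | zero => simp
  | add x y hx hy => simp only [map_add, hx, hy]
  | tmul x y => simp

/-- restriction of points along a homomorphism -/
noncomputable def resPt (φ : B →ₐc[k] A) : WithConv (A →ₐ[k] R) →* WithConv (B →ₐ[k] R) where
  toFun g := toConv (g.ofConv.comp (φ : B →ₐ[k] A))
  map_one' := by
    apply WithConv.ofConv_injective
    ext b
    change (1 : WithConv (A →ₐ[k] R)).ofConv (φ b) = (1 : WithConv (B →ₐ[k] R)).ofConv b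
    rw [AlgHom.convOne_def, AlgHom.convOne_def]
    simp only [AlgHom.comp_apply, Bialgebra.counitAlgHom_apply, ofConv_toConv]
    rw [CoalgHomClass.counit_comp_apply]
  map_mul' f g := by
    apply WithConv.ofConv_injective
    exact AlgHom.convMul_comp_bialgHom_distrib f g φ

@[simp] lemma resPt_apply (φ : B →ₐc[k] A) (g : WithConv (A →ₐ[k] R)) (b : B) :
    (resPt φ g).ofConv b = g.ofConv (φ b) := rfl

lemma one_ofConv_apply (a : A) : (1 : WithConv (A →ₐ[k] R)).ofConv a = algebraMap k R (counit a) := rfl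

variable {φ : B →ₐc[k] A} {π : A →ₐc[k] H}

/-- a point with trivial image comes from the kernel -/
theorem IsHopfKer.exists_factor_one (h : IsHopfKer φ π) (x : WithConv (A →ₐ[k] R))
    (hx : resPt φ x = 1) : ∃ y : H →ₐ[k] R, x = toConv (y.comp (π : A →ₐ[k] H)) := by
  have hle : ∀ a, π a = 0 → x.ofConv a = 0 := by
    intro a ha
    have h1 : Ideal.map (φ : B →+* A) (RingHom.ker (Bialgebra.counitAlgHom k B)) ≤
        RingHom.ker x.ofConv := by
      rw [Ideal.map_le_iff_le_comap]
      intro b hb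
      rw [Ideal.mem_comap, RingHom.mem_ker]
      have h2 : (resPt φ x).ofConv b = (1 : WithConv (B →ₐ[k] R)).ofConv b := by rw [hx]
      rw [one_ofConv_apply] at h2
      have h3 : counit (R := k) b = 0 := hb
      rw [h3, map_zero] at h2
      exact h2
    exact h1 (h.ker a ha)
  let e := Ideal.quotientKerAlgEquivOfSurjective (f := (π : A →ₐ[k] H)) h.surj
  let y0 : (A ⧸ RingHom.ker (π : A →ₐ[k] H)) →ₐ[k] R :=
    Ideal.Quotient.liftₐ _ x.ofConv (fun a ha => hle a ha)
  refine ⟨y0.comp (e.symm : H →ₐ[k] _), ?_⟩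
  apply WithConv.ofConv_injective
  ext a
  change x.ofConv a = y0 (e.symm (π a))
  have h1 : e.symm (π a) = Ideal.Quotient.mk _ a := by
    rw [AlgEquiv.symm_apply_eq]
    rfl
  rw [h1]
  rfl

/-- two points with the same image differ by a point of the kernel -/
theorem IsHopfKer.exists_factor (h : IsHopfKer φ π) (f g : WithConv (A →ₐ[k] R))
    (hfg : resPt φ f = resPt φ g) :
    ∃ y : H →ₐ[k] R, f⁻¹ * g = toConv (y.comp (π : A →ₐ[k] H)) := by
  apply h.exists_factor_one
  rw [map_mul, map_inv, hfg, inv_mul_cancel]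

lemma mapPt_comp_pi {S : Type u} [CommRing S] [Algebra k S] (e : R →ₐ[k] S) (y : H →ₐ[k] R) :
    mapPt e (toConv (y.comp (π : A →ₐ[k] H))) = toConv ((e.comp y).comp (π : A →ₐ[k] H)) := rfl

end basic

section desc

variable {k : Type u} [Field k] {A B H : Type u} [CommRing A] [HopfAlgebra k A] [CommRing B]
  [HopfAlgebra k B] [CommRing H] [HopfAlgebra k H] {φ : B →ₐc[k] A} {π : A →ₐc[k] H}

lemma rho_phi (hk : IsHopfKer φ π) (b : B) : rho π (φ b) = φ b ⊗ₜ[k] (1 : H) := by
  have h1 : comul (R := k) (φ b) = TensorProduct.map (φ : B →ₐ[k] A).toLinearMap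
      (φ : B →ₐ[k] A).toLinearMap (comul (R := k) b) :=
    (CoalgHomClass.map_comp_comul_apply φ b).symm
  rw [rho_apply, h1]
  have h2 : ∀ z : B ⊗[k] B, TensorProduct.map LinearMap.id (π : A →ₐ[k] H).toLinearMap
      (TensorProduct.map (φ : B →ₐ[k] A).toLinearMap (φ : B →ₐ[k] A).toLinearMap z) =
      TensorProduct.map (φ : B →ₐ[k] A).toLinearMap (Algebra.linearMap k H)
        ((counit (R := k) (A := B)).lTensor B z) := by
    intro z
    induction z with
    | zero => simp
    | add x y hx hy => simp only [map_add, hx, hy]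
    | tmul x y =>
      simp only [TensorProduct.map_tmul, LinearMap.lTensor_tmul, LinearMap.id_apply,
        AlgHom.toLinearMap_apply, Algebra.linearMap_apply]
      congr 1
      exact hk.comp y
  rw [h2, Coalgebra.lTensor_counit_comul]
  simp

variable [Algebra B A] [IsScalarTower k B A]

/-- the left inclusion `A → A ⊗_B A` -/
noncomputable abbrev i1 (k A B : Type u) [Field k] [CommRing A] [Algebra k A] [CommRing B] [Algebra k B]
    [Algebra B A] [IsScalarTower k B A] : A →ₐ[k] A ⊗[B] A :=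
  (Algebra.TensorProduct.includeLeft : A →ₐ[B] A ⊗[B] A).restrictScalars k

/-- the right inclusion `A → A ⊗_B A` -/
noncomputable abbrev i2 (k A B : Type u) [Field k] [CommRing A] [Algebra k A] [CommRing B] [Algebra k B]
    [Algebra B A] [IsScalarTower k B A] : A →ₐ[k] A ⊗[B] A :=
  (Algebra.TensorProduct.includeRight : A →ₐ[B] A ⊗[B] A).restrictScalars k

lemma exists_diff (hk : IsHopfKer φ π) (hφ : ∀ b, φ b = algebraMap B A b) :
    ∃ y : H →ₐ[k] A ⊗[B] A, (toConv (i1 k A B))⁻¹ * toConv (i2 k A B) =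
      toConv (y.comp (π : A →ₐ[k] H)) := by
  apply hk.exists_factor
  apply WithConv.ofConv_injective
  ext b
  change (φ b) ⊗ₜ[B] (1 : A) = (1 : A) ⊗ₜ[B] (φ b)
  rw [hφ, Algebra.algebraMap_eq_smul_one, TensorProduct.smul_tmul]

/-- **The invariants of the kernel.** -/
theorem mem_range_of_rho [Module.FaithfullyFlat B A] (hk : IsHopfKer φ π)
    (hφ : ∀ b, φ b = algebraMap B A b) (a : A) (ha : rho π a = a ⊗ₜ[k] (1 : H)) :
    ∃ b, φ b = a := by
  obtain ⟨y, hy⟩ := exists_diff hk hφ
  rw [inv_mul_eq_iff_eq_mul] at hy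
  have h1 : (toConv (i2 k A B)).ofConv a = i1 k A B a := by
    rw [hy, ← lift_rho, ha]
    simp
  obtain ⟨b, hb⟩ := Groth.Agent.S4104.mem_range_of_tmul_eq (R := B) a h1
  exact ⟨b, by rw [hφ, ← hb]; rfl⟩

/-- the right coaction is linear over the invariants -/
noncomputable def rhoB (hk : IsHopfKer φ π) (hφ : ∀ b, φ b = algebraMap B A b) : A →ₐ[B] A ⊗[k] H :=
  { (rho π : A →+* A ⊗[k] H) with
      commutes' := fun b => by
        change rho π (algebraMap B A b) = algebraMap B A b ⊗ₜ[k] (1 : H)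
        rw [← hφ, rho_phi hk] }

lemma rhoB_apply (hk : IsHopfKer φ π) (hφ : ∀ b, φ b = algebraMap B A b) (a : A) :
    rhoB hk hφ a = rho π a := rfl

/-- `a ⊗ a' ↦ (a ⊗ 1) ρ(a')` over the invariants -/
noncomputable def canHomB (hk : IsHopfKer φ π) (hφ : ∀ b, φ b = algebraMap B A b) :
    A ⊗[B] A →ₐ[B] A ⊗[k] H :=
  Algebra.TensorProduct.lift (Algebra.TensorProduct.includeLeft : A →ₐ[B] A ⊗[k] H)
    (rhoB hk hφ) (fun _ _ => Commute.all _ _)

/-- `a ⊗ a' ↦ (a ⊗ 1) ρ(a')` -/
noncomputable def canHom (hk : IsHopfKer φ π) (hφ : ∀ b, φ b = algebraMap B A b) :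
    A ⊗[B] A →ₐ[k] A ⊗[k] H :=
  (canHomB hk hφ).restrictScalars k

lemma canHom_i1 (hk : IsHopfKer φ π) (hφ : ∀ b, φ b = algebraMap B A b) (a : A) :
    canHom hk hφ (a ⊗ₜ[B] (1 : A)) = a ⊗ₜ[k] (1 : H) := by
  change canHomB hk hφ (a ⊗ₜ[B] (1 : A)) = _
  rw [canHomB, Algebra.TensorProduct.lift_tmul, map_one, mul_one]
  rfl

lemma canHom_i2 (hk : IsHopfKer φ π) (hφ : ∀ b, φ b = algebraMap B A b) (a : A) :
    canHom hk hφ ((1 : A) ⊗ₜ[B] a) = rho π a := by
  change canHomB hk hφ ((1 : A) ⊗ₜ[B] a) = _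
  rw [canHomB, Algebra.TensorProduct.lift_tmul, map_one, one_mul]
  rfl

lemma apply_of_prim {R : Type u} [CommRing R] [Algebra k R] (f g : WithConv (H →ₐ[k] R)) {p : H}
    (hp : comul (R := k) p = p ⊗ₜ[k] (1 : H) + (1 : H) ⊗ₜ[k] p) :
    (f * g).ofConv p = f.ofConv p + g.ofConv p := by
  rw [mul_ofConv_apply, hp]
  simp

lemma inv_mul_mul_inv_mul {G : Type u} [Group G] (a b c : G) : a⁻¹ * b * (b⁻¹ * c) = a⁻¹ * c := by
  group

/-- **Lifting of primitive elements of the kernel.** -/
theorem exists_lift [Module.FaithfullyFlat B A] (hk : IsHopfKer φ π)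
    (hφ : ∀ b, φ b = algebraMap B A b) {p : H}
    (hp : comul (R := k) p = p ⊗ₜ[k] (1 : H) + (1 : H) ⊗ₜ[k] p) :
    ∃ θ : A, rho π θ = θ ⊗ₜ[k] (1 : H) + (1 : A) ⊗ₜ[k] p := by
  obtain ⟨y, hy⟩ := exists_diff hk hφ
  let q12 : A ⊗[B] A →ₐ[k] A ⊗[B] (A ⊗[B] A) := (K151.Amitsur.p12 B A).restrictScalars k
  let q13 : A ⊗[B] A →ₐ[k] A ⊗[B] (A ⊗[B] A) := (K151.Amitsur.p13 B A).restrictScalars k
  let q23 : A ⊗[B] A →ₐ[k] A ⊗[B] (A ⊗[B] A) := (K151.Amitsur.p23 B A).restrictScalars k
  have e1 : mapPt q12 (toConv (i1 k A B)) = mapPt q13 (toConv (i1 k A B)) := rfl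
  have e2 : mapPt q12 (toConv (i2 k A B)) = mapPt q23 (toConv (i1 k A B)) := by
    apply WithConv.ofConv_injective
    ext a
    rfl
  have e3 : mapPt q13 (toConv (i2 k A B)) = mapPt q23 (toConv (i2 k A B)) := by
    apply WithConv.ofConv_injective
    ext a
    rfl
  have h1 : mapPt q12 (toConv (y.comp (π : A →ₐ[k] H))) * mapPt q23 (toConv (y.comp (π : A →ₐ[k] H))) =
      mapPt q13 (toConv (y.comp (π : A →ₐ[k] H))) := by
    rw [← hy, map_mul, map_mul, map_mul, map_inv, map_inv, map_inv, e1, e2, e3]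
    exact inv_mul_mul_inv_mul _ _ _
  have h2 : resPt π (toConv (q12.comp y) * toConv (q23.comp y)) = resPt π (toConv (q13.comp y)) := by
    rw [map_mul]
    exact h1
  have h3 : q12 (y p) + q23 (y p) = q13 (y p) := by
    obtain ⟨a, rfl⟩ := hk.surj p
    have h4 := DFunLike.congr_fun (congrArg WithConv.ofConv h2) a
    rw [resPt_apply, resPt_apply, apply_of_prim _ _ hp] at h4
    exact h4
  obtain ⟨θ, hθ⟩ := K151.Amitsur.exists_of_add (R := B) (B := A) (y p) h3
  refine ⟨θ, ?_⟩
  have h5 : mapPt (canHom hk hφ) (toConv (y.comp (π : A →ₐ[k] H))) =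
      toConv ((Algebra.TensorProduct.includeRight : H →ₐ[k] A ⊗[k] H).comp (π : A →ₐ[k] H)) := by
    rw [← hy, map_mul, map_inv, inv_mul_eq_iff_eq_mul]
    apply WithConv.ofConv_injective
    ext a
    change canHom hk hφ ((1 : A) ⊗ₜ[B] a) = _
    rw [canHom_i2]
    have h6 : mapPt (canHom hk hφ) (toConv (i1 k A B)) =
        toConv (Algebra.TensorProduct.includeLeft : A →ₐ[k] A ⊗[k] H) := by
      apply WithConv.ofConv_injective
      ext a
      exact canHom_i1 hk hφ a
    rw [h6, ← lift_rho]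
    have h7 : Algebra.TensorProduct.lift (Algebra.TensorProduct.includeLeft : A →ₐ[k] A ⊗[k] H)
        (Algebra.TensorProduct.includeRight : H →ₐ[k] A ⊗[k] H) (fun _ _ => Commute.all _ _) =
        AlgHom.id k _ := by
      ext <;> simp
    rw [h7]
    rfl
  have h8 : canHom hk hφ (y p) = (1 : A) ⊗ₜ[k] p := by
    obtain ⟨a, rfl⟩ := hk.surj p
    exact DFunLike.congr_fun (congrArg WithConv.ofConv h5) a
  rw [← hθ, map_sub, canHom_i1, canHom_i2, sub_eq_iff_eq_add] at h8
  rw [h8, add_comm]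

end desc

end K206.KerPts
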