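import Groth.Agent.PrincBund.K206.RadQuot
import Groth.Agent.PrincBund.K206.GalQuot
import Groth.Agent.PrincBund.K826.CharZeroCov
import Groth.Agent.PrincBund.K826.URad
import Groth.Agent.RedSub.K199.QuotTools
import Groth.Agent.RedSub.K197.QuotPts
import Groth.Agent.Sga3B.Pts

/-!
# Tools for quotients by subgroups with unipotent radical in the unipotent radical
-/

set_option autoImplicit false

universe u

open CategoryTheory MonoidalCategory CartesianMonoidalCategory MonObj GrpObj AlgebraicGeometry
open TensorProduct WithConv HopfRep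
open Groth.Agent.Books.AffBridge Groth.Agent.Books.AffBridge2

namespace K206.LeviQuot

open K206.GalQuot K206.UnipQuot K199.QuotTools

/-- A homomorphism which is trivial on the subgroup factors through the fppf quotient. -/
theorem exists_factor {S : Scheme.{u}} {G H Q C : Over S} [GrpObj G] [GrpObj H] [GrpObj C] {i : H ⟶ G}
    {q : G ⟶ Q} (hq : RedSub.IsQuotient i q) (f : G ⟶ C) [IsMonHom f] (h : i ≫ f = 1) :
    ∃ f' : Q ⟶ C, q ≫ f' = f := by
  refine K197.Fppf.exists_desc (K197.QuotPts.isCov hq) f fun T a b hab => ?_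
  obtain ⟨x, hx⟩ := K197.QuotPts.exists_of_eq hq a b hab
  rw [hx, MonObj.mul_comp, Category.assoc, h, MonObj.comp_one, _root_.mul_one]

/-- A morphism out of an fppf quotient group is a homomorphism if its composite with the quotient is. -/
theorem isMonHom_of_fppf {S : Scheme.{u}} {G C A : Over S} [GrpObj G] [GrpObj C] [GrpObj A] (q : G ⟶ C)
    [IsMonHom q] (hq : Fppf q) (φ : C ⟶ A) (f : G ⟶ A) [IsMonHom f] (hf : q ≫ φ = f) :
    IsMonHom φ := by
  refine Groth.Agent.Sga3B.Pts.isMonHom_of_points φ fun X x y => ?_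
  obtain ⟨X₁, r₁, x', hr₁, hx'⟩ := hq.exists_lift x
  obtain ⟨X₂, r₂, y', hr₂, hy'⟩ := hq.exists_lift (r₁ ≫ y)
  have hr := (hr₂.comp hr₁).epi
  rw [← cancel_epi (r₂ ≫ r₁)]
  have h1 : (r₂ ≫ r₁) ≫ x = (r₂ ≫ x') ≫ q := by
    rw [Category.assoc, Category.assoc, hx']
  have h2 : (r₂ ≫ r₁) ≫ y = y' ≫ q := by
    rw [Category.assoc, hy']
  have h3 : (r₂ ≫ r₁) ≫ (x * y) = ((r₂ ≫ x') * y') ≫ q := by
    rw [MonObj.mul_comp, MonObj.comp_mul, h1, h2]
  have h4 : (r₂ ≫ r₁) ≫ x ≫ φ = (r₂ ≫ x') ≫ f := by
    rw [← Category.assoc, h1, Category.assoc, hf]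
  have h5 : (r₂ ≫ r₁) ≫ y ≫ φ = y' ≫ f := by
    rw [← Category.assoc, h2, Category.assoc, hf]
  rw [← Category.assoc, h3, Category.assoc, hf, MonObj.mul_comp, MonObj.comp_mul, h4, h5]

variable {k : Type u} [Field k] {A B : Type u} [CommRing A] [HopfAlgebra k A] [CommRing B]
  [HopfAlgebra k B]

/-- An injective homomorphism of Hopf algebras of finite type gives an fppf covering. -/
theorem fppf_specMap (φ : B →ₐc[k] A) (hφ : Function.Injective φ) [Algebra.FiniteType k A] :
    Fppf (specMap k (φ : B →ₐ[k] A)) := by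
  letI : Algebra B A := (φ : B →+* A).toAlgebra
  haveI : IsScalarTower k B A := IsScalarTower.of_algebraMap_eq fun x =>
    (AlgHomClass.commutes φ x).symm
  haveI : Module.FaithfullyFlat B A := Groth.Agent.MiscA.HopfFlat.faithfullyFlat φ hφ
  have hNA : IsNoetherianRing A := Algebra.FiniteType.isNoetherianRing k A
  have hNB : IsNoetherianRing B := isNoetherianRing_of_faithfullyFlat B A
  have hft : Algebra.FiniteType B A := Algebra.FiniteType.of_restrictScalars_finiteType k _ _
  have hfp : Algebra.FinitePresentation B A := Algebra.FinitePresentation.of_finiteType.1 inferInstance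
  have hff : Flat (specMap k (φ : B →ₐ[k] A)).left ∧ Surjective (specMap k (φ : B →ₐ[k] A)).left := by
    change Flat (Spec.map (CommRingCat.ofHom (algebraMap B A))) ∧
      Surjective (Spec.map (CommRingCat.ofHom (algebraMap B A)))
    rw [flat_and_surjective_SpecMap_iff]
    exact RingHom.faithfullyFlat_algebraMap_iff.2 inferInstance
  refine ⟨hff.2, hff.1, ?_⟩
  change LocallyOfFinitePresentation (Spec.map (CommRingCat.ofHom (algebraMap B A)))
  rw [HasRingHomProperty.Spec_iff (P := @LocallyOfFinitePresentation)]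
  exact RingHom.finitePresentation_algebraMap.2 inferInstance

/-- A Hopf subalgebra of a Hopf algebra of finite type is of finite type. -/
theorem finiteType_of_injective (φ : B →ₐc[k] A) (hφ : Function.Injective φ) [Algebra.FiniteType k A] :
    Algebra.FiniteType k B := by
  have h := fppf_specMap φ hφ
  have h1 : LocallyOfFiniteType (SpecOver k A).hom :=
    (locallyOfFiniteType_specOver_iff k A).2 inferInstance
  have h2 : LocallyOfFiniteType ((specMap k (φ : B →ₐ[k] A)).left ≫ (SpecOver k B).hom) := by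
    rw [Over.w]
    infer_instance
  have h3 := h.surj
  have h4 := h.flat
  have h5 := h.lfp
  have h6 : LocallyOfFiniteType (SpecOver k B).hom :=
    Groth.Agent.Pic13.H965.LFT.locallyOfFiniteType_of_fppf_comp
      (specMap k (φ : B →ₐ[k] A)).left (SpecOver k B).hom
  exact (locallyOfFiniteType_specOver_iff k B).1 h6

/-- A Hopf subalgebra of a linearly reductive Hopf algebra is linearly reductive. -/
theorem isLinearlyReductive_of_injective (φ : B →ₐc[k] A) (hφ : Function.Injective φ)
    (hA : IsLinearlyReductive k A) : IsLinearlyReductive k B := by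
  obtain ⟨α, hα, h1⟩ := K191.Reductive.exists_isInt hA
  refine K191.Reductive.isLinearlyReductive_of_isInt
    ⟨α ∘ₗ (φ : B →ₐ[k] A).toLinearMap, fun b => ?_, ?_⟩
  · have hinj : Function.Injective ((φ : B →ₐ[k] A).toLinearMap.lTensor k) :=
      Module.Flat.lTensor_preserves_injective_linearMap _ hφ
    apply hinj
    have h2 : CoalgebraStruct.comul (R := k) (φ b) = TensorProduct.map (φ : B →ₐ[k] A).toLinearMap
        (φ : B →ₐ[k] A).toLinearMap (CoalgebraStruct.comul (R := k) b) :=
      (CoalgHomClass.map_comp_comul_apply φ b).symm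
    have h3 := hα (φ b)
    rw [h2] at h3
    have h4 : ∀ z : B ⊗[k] B, (φ : B →ₐ[k] A).toLinearMap.lTensor k
        ((α ∘ₗ (φ : B →ₐ[k] A).toLinearMap).rTensor B z) =
        α.rTensor A (TensorProduct.map (φ : B →ₐ[k] A).toLinearMap
        (φ : B →ₐ[k] A).toLinearMap z) := by
      intro z
      induction z with
      | zero => simp
      | add x y hx hy => simp only [map_add, hx, hy]
      | tmul x y => simp
    rw [h4, h3, LinearMap.lTensor_tmul, AlgHom.toLinearMap_apply, map_one]
    rfl
  · change α (φ 1) = 1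
    rw [map_one, h1]

variable [CharZero k]

/-- The quotient by the unipotent radical as an fppf quotient. -/
theorem exists_rad_quotient (G : Over (Spec (CommRingCat.of k))) [GrpObj G] [IsAffine G.left]
    [LocallyOfFiniteType G.hom] (U : Over (Spec (CommRingCat.of k))) [GrpObj U] (u : U ⟶ G)
    (hU : Par.IsUnipotentRadical u) :
    ∃ (B : Type u) (_ : CommRing B) (_ : HopfAlgebra k B) (q : G ⟶ SpecOver k B),
      IsMonHom q ∧ RedSub.IsQuotient u q ∧ Fppf q ∧ Algebra.FiniteType k B ∧
      IsLinearlyReductive k B := by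
  obtain ⟨A, _, _, B, _, _, e, φ, he, hft, hφ, hUn, hB, hk⟩ :=
    K206.RadQuot.exists_data k G U u hU
  have hcl : IsClosedImmersion u.left := hU.2.1
  have hmono : Mono u := Groth.Agent.Books.AlgPtsGrp.mono_of_isClosedImmersion u
  have hm1 : IsMonHom (specMap k (φ : B →ₐ[k] A)) := isMonHom_specMap k φ
  have hf := fppf_specMap φ hφ
  have hf' : Fppf (e.hom ≫ specMap k (φ : B →ₐ[k] A)) := by
    have h1 := hf.surj
    have h2 := hf.flat
    have h3 := hf.lfp
    refine ⟨?_, ?_, ?_⟩ <;> rw [Over.comp_left] <;> infer_instance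
  exact ⟨B, inferInstance, inferInstance, e.hom ≫ specMap k (φ : B →ₐ[k] A), inferInstance,
    isQuotient_of_isKernel _ hk hf', hf', finiteType_of_injective φ hφ, hB⟩

/-- **Quotients by closed subgroups of a unipotent radical.** -/
theorem exists_quotient_unip {G U V : Over (Spec (CommRingCat.of k))} [GrpObj G] [IsAffine G.left]
    [GrpObj U] [GrpObj V] (u : U ⟶ G) (hU : Par.IsUnipotentRadical u) (j : V ⟶ U) [IsMonHom j]
    (hj : IsClosedImmersion j.left) :
    ∃ (Q : Over (Spec (CommRingCat.of k))) (q : U ⟶ Q), RedSub.IsQuotient j q ∧ IsAffine Q.left := by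
  obtain ⟨-, D, _, _, e, he, hsm, hun⟩ := K826.URad.exists_hopf_unip u hU
  exact UnipQuot.exists_quotient j hj e hun

end K206.LeviQuot
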