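import Groth.Agent.Books.ComodSocle
import Groth.Agent.Books.CharZeroUnip2
import Mathlib.Tactic.LinearCombination

/-!
# A homomorphism of conilpotent bialgebras which is not injective kills a nonzero primitive element
-/

set_option autoImplicit false

universe u v w

open TensorProduct HopfRep
open Groth.Agent.Books.ComodDual Groth.Agent.Books.ComodSocle Groth.Agent.Books.CharZeroUnip2

namespace K206.PrimKer

variable {k : Type u} {A : Type v} {C : Type w} [Field k] [CommRing A] [Bialgebra k A] [CommRing C]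
  [Bialgebra k C] (ψ : A →ₐc[k] C)

lemma comul_psi (a : A) : CoalgebraStruct.comul (R := k) (ψ a) =
    TensorProduct.map (ψ : A →ₐ[k] C).toLinearMap (ψ : A →ₐ[k] C).toLinearMap
      (CoalgebraStruct.comul (R := k) a) :=
  (CoalgHomClass.map_comp_comul_apply ψ a).symm

lemma psi_cact (f : C →ₗ[k] k) (a : A) :
    ψ (cact (f ∘ₗ (ψ : A →ₐ[k] C).toLinearMap) a) = cact f (ψ a) := by
  rw [cact_regular, cact_regular, comul_psi]
  generalize CoalgebraStruct.comul (R := k) a = z
  induction z with
  | zero => simp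
  | add x y hx hy => simp only [map_add, hx, hy]
  | tmul x y =>
    rw [contr_tmul, map_smul, TensorProduct.map_tmul, contr_tmul]
    rfl

lemma psi_ract (f : C →ₗ[k] k) (a : A) :
    ψ (ract (f ∘ₗ (ψ : A →ₐ[k] C).toLinearMap) a) = ract f (ψ a) := by
  rw [ract, ract, LinearMap.comp_apply, LinearMap.comp_apply, LinearMap.comp_apply,
    LinearMap.comp_apply, comul_psi]
  generalize CoalgebraStruct.comul (R := k) a = z
  induction z with
  | zero => simp
  | add x y hx hy => simp only [map_add, hx, hy]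
  | tmul x y =>
    rw [LinearMap.rTensor_tmul, TensorProduct.map_tmul, LinearMap.rTensor_tmul]
    simp only [LinearEquiv.coe_coe, TensorProduct.lid_tmul, LinearMap.comp_apply]
    change ψ (_ • y) = _ • ψ y
    rw [map_smul]

/-- **A homomorphism out of a conilpotent bialgebra which is not injective kills a nonzero primitive
element.** -/
theorem exists_prim_ker (h : ∀ a : A, ∃ n, a ∈ soc k A A n)
    (hns : ¬ Function.Injective ψ) : ∃ x : A, x ≠ 0 ∧ IsPrim k x ∧ ψ x = 0 := by
  classical
  have hex : ∃ n, ∃ a ∈ soc k A A n, a ≠ 0 ∧ ψ a = 0 := by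
    rw [injective_iff_map_eq_zero] at hns
    push Not at hns
    obtain ⟨a, ha, ha0⟩ := hns
    obtain ⟨n, hn⟩ := h a
    exact ⟨n, a, hn, ha0, ha⟩
  obtain ⟨n, ⟨a, han, ha0, hψa⟩, hmin⟩ : ∃ n, (∃ a ∈ soc k A A n, a ≠ 0 ∧ ψ a = 0) ∧
      ∀ m < n, ∀ b ∈ soc k A A m, ψ b = 0 → b = 0 := by
    refine ⟨Nat.find hex, Nat.find_spec hex, fun m hm b hb hb0 => ?_⟩
    by_contra hne
    exact Nat.find_min hex hm ⟨b, hb, hne, hb0⟩
  have hεa : CoalgebraStruct.counit (R := k) a = 0 := by
    have h1 : CoalgebraStruct.counit (R := k) (ψ a) = CoalgebraStruct.counit (R := k) a :=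
      CoalgHomClass.counit_comp_apply ψ a
    rw [← h1, hψa, map_zero]
  rcases n with _ | _ | n
  · exact absurd ((Submodule.mem_bot k).1 han) ha0
  · rw [soc_one_regular, Submodule.mem_span_singleton] at han
    obtain ⟨c, rfl⟩ := han
    rw [map_smul, Bialgebra.counit_one, smul_eq_mul, mul_one] at hεa
    rw [hεa, zero_smul] at ha0
    exact absurd rfl ha0
  · refine ⟨a, ha0, ?_, hψa⟩
    have hcz : ∀ f : C →ₗ[k] k, f 1 = 0 → cact (f ∘ₗ (ψ : A →ₐ[k] C).toLinearMap) a = 0 := by
      intro f hf
      refine hmin (n + 1) (Nat.lt_succ_self _) _ (mem_soc_succ.1 han _ ?_) ?_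
      · change f (ψ 1) = 0
        rw [map_one, hf]
      · rw [psi_cact, hψa, map_zero]
    have hrz : ∀ f : C →ₗ[k] k, f 1 = 0 → ract (f ∘ₗ (ψ : A →ₐ[k] C).toLinearMap) a = 0 := by
      intro f hf
      refine hmin (n + 1) (Nat.lt_succ_self _) _ ((mem_soc_succ_iff_ract _ _).1 han _ ?_) ?_
      · change f (ψ 1) = 0
        rw [map_one, hf]
      · rw [psi_ract, hψa, map_zero]
    -- functionals on `soc (n + 1)` extend to `C`
    have hext : ∀ f : A →ₗ[k] k, ∃ f' : C →ₗ[k] k, ∀ b ∈ soc k A A (n + 1), f b = f' (ψ b) := by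
      intro f
      let i : soc k A A (n + 1) →ₗ[k] C := (ψ : A →ₐ[k] C).toLinearMap ∘ₗ (soc k A A (n + 1)).subtype
      have hi : LinearMap.ker i = ⊥ := by
        rw [LinearMap.ker_eq_bot']
        intro b hb
        exact Subtype.ext (hmin (n + 1) (Nat.lt_succ_self _) b b.2 hb)
      obtain ⟨r, hr⟩ := LinearMap.exists_leftInverse_of_injective i hi
      refine ⟨f ∘ₗ (soc k A A (n + 1)).subtype ∘ₗ r, fun b hb => ?_⟩
      have h1 := LinearMap.congr_fun hr ⟨b, hb⟩
      change f b = f ((r (i ⟨b, hb⟩) : soc k A A (n + 1)) : A)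
      rw [← LinearMap.comp_apply, h1]
      rfl
    have h1mem : (1 : A) ∈ soc k A A (n + 1) := by
      apply soc_mono (Nat.succ_le_succ (Nat.zero_le n))
      rw [soc_one_regular]
      exact Submodule.mem_span_singleton_self 1
    have key : ∀ f g : A →ₗ[k] k, f 1 = 0 → g 1 = 0 → f (cact g a) = 0 := by
      intro f g hf hg
      obtain ⟨f', hf'⟩ := hext f
      have hf1 : f' 1 = 0 := by
        have h2 : f 1 = f' (ψ 1) := hf' 1 h1mem
        rw [map_one ψ, hf] at h2
        exact h2.symm
      rw [hf' _ (mem_soc_succ.1 han g hg)]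
      have h2 : f' (ψ (cact g a)) =
          CoalgebraStruct.counit (R := k) (ract (f' ∘ₗ (ψ : A →ₐ[k] C).toLinearMap) (cact g a)) := by
        rw [counit_ract]
        rfl
      rw [h2, ← cact_ract, hrz f' hf1, map_zero, map_zero]
    apply eq_of_contr
    intro g
    rw [← cact_regular, map_add, contr_tmul, contr_tmul]
    apply eq_of_forall_dual (k := k)
    intro f
    have h2 := key (f - f 1 • CoalgebraStruct.counit (R := k))
      (g - g 1 • CoalgebraStruct.counit (R := k)) (by simp) (by simp)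
    have h3 : cact (g - g 1 • CoalgebraStruct.counit (R := k)) a = cact g a - g 1 • a := by
      have h4 : g - g 1 • CoalgebraStruct.counit (R := k) =
          g + (-(g 1)) • CoalgebraStruct.counit (R := k) (A := A) := by
        ext z
        simp [sub_eq_add_neg]
      rw [h4, cact_regular, contr_add, contr_smul, ← cact_regular,
        ← cact_regular, cact_counit, _root_.neg_smul, ← sub_eq_add_neg]
    rw [h3] at h2
    simp only [LinearMap.sub_apply, LinearMap.smul_apply, smul_eq_mul, map_sub, map_smul,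
      counit_cact, hεa, mul_zero, sub_zero] at h2
    rw [map_add, map_smul, map_smul, smul_eq_mul, smul_eq_mul]
    linear_combination h2

end K206.PrimKer
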