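import Groth.Agent.PrincBund.K206.Split
import Groth.Agent.HopfRep.K192.RedQuot
import Groth.Agent.HopfRep.K191.Reductive
import Groth.Agent.AGF.K494.RadSch
import Groth.Agent.AGF.K494.RadRed
import Groth.Agent.AGF.K494.HomDict
import Groth.Agent.PRed.K543.UnipPts
import Groth.Agent.S18813
import Groth.Agent.S0353

/-!
# The linearly reductive quotient by the unipotent radical (characteristic zero, any field)
-/

set_option autoImplicit false
set_option maxHeartbeats 400000

universe u

open CategoryTheory MonoidalCategory CartesianMonoidalCategory MonObj GrpObj AlgebraicGeometry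
open TensorProduct WithConv HopfRep
open Groth.Agent Groth.Agent.Books Groth.Agent.Books.AffBridge Groth.Agent.Books.AffBridge2
open Groth.Agent.Sga3B Groth.Agent.Sga3B.RG Groth.Agent.Agf.H593.QuotPt Groth.Agent.Agf.H593.UnipRad
open Groth.Agent.Sga3B.Parab.BorelPts172 Groth.Agent.Sga3B.Parab.SolvPts172
open Groth.Agent.Sga3B.RG.BcPt

namespace K206.RadQuot

section points

variable {K : Type u} [Field K] [IsAlgClosed K] {A : Type u} [CommRing A] [HopfAlgebra K A]
  [Algebra.FiniteType K A]

/-- The quotient by the unipotent radical has trivial unipotent radical. -/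
theorem isRedPt_of_ker [_root_.IsReduced A] {C : Type u} [CommRing C] [HopfAlgebra K C]
    (φ : C →ₐc[K] A) (hs : Function.Surjective (Pt.map φ)) {N : Subgroup (Pt K A)}
    (hker : (Pt.map φ).ker = N) (hN : K494.RadPt.IsURad N) : IsRedPt K C := by
  intro M hMn hMcl hMconn hMu
  have hPcl : IsCl ((M.comap (Pt.map φ) : Subgroup (Pt K A)) : Set (Pt K A)) :=
    hMcl.preimage_map φ
  have hmap : (M.comap (Pt.map φ)).map (Pt.map φ) = M :=
    Subgroup.map_comap_eq_self_of_surjective hs M
  have hnP : (M.comap (Pt.map φ)).Normal := hMn.comap _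
  have hle : idComp (M.comap (Pt.map φ)) ≤ M.comap (Pt.map φ) := idComp_le hPcl
  have hNle : N ≤ idComp (M.comap (Pt.map φ)) := by
    apply le_idComp hN.isConn
    rw [← hker]
    exact Subgroup.ker_le_comap _ _
  have h1 : idComp (M.comap (Pt.map φ)) = N := by
    refine le_antisymm (hN.le _ (normal_idComp hPcl hnP) (isCl_idComp _) (isConn_idComp _) ?_) hNle
    refine isUnip_of_map_of_ker φ (isCl_idComp _) (isConn_idComp _) ?_ ?_
    · intro g hg
      exact hMu _ (hle hg)
    · intro g _ hg1
      apply hN.isUnip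
      rw [← hker]
      exact hg1
  have h2 := map_idComp φ hPcl (by rw [hmap]; exact hMconn)
  rw [hmap, h1, ← hker] at h2
  rw [← h2, eq_bot_iff]
  rintro _ ⟨x, hx, rfl⟩
  exact hx

end points

open Groth.Agent.Agf.H612.GalMain in
/-- **The data of the quotient by the unipotent radical.** -/
theorem exists_data (k : Type u) [Field k] [CharZero k]
    (G : Over (Spec (CommRingCat.of k))) [GrpObj G] [IsAffine G.left] [LocallyOfFiniteType G.hom]
    (U : Over (Spec (CommRingCat.of k))) [GrpObj U] (u : U ⟶ G) (hU : Par.IsUnipotentRadical u) :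
    ∃ (A : Type u) (_ : CommRing A) (_ : HopfAlgebra k A) (B : Type u) (_ : CommRing B)
      (_ : HopfAlgebra k B) (e : G ≅ SpecOver k A) (φ : B →ₐc[k] A),
      IsMonHom e.hom ∧ Algebra.FiniteType k A ∧ Function.Injective φ ∧
      IsUnipotent k (A ⧸ K206.Split.augI φ) ∧ IsLinearlyReductive k B ∧
      AlgGrp.IsKernel u (e.hom ≫ specMap k (φ : B →ₐ[k] A)) := by
  have hGs : Smooth G.hom := Groth.Agent.S0353.result k G
  have hu := hU.1
  have hcl : IsClosedImmersion u.left := hU.2.1
  have hn := hU.2.2.1
  have hUs : Smooth U.hom := hU.2.2.2.1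
  have hfib := hU.2.2.2.2.2.1
  let s : ↥(Spec (CommRingCat.of k)) := IsLocalRing.closedPoint k
  obtain ⟨A, _, _, e, he, hft⟩ := K494.RadRed.exists_hopf_ft k G
  have hcl' : IsClosedImmersion (u ≫ e.hom).left := by
    rw [Over.comp_left]
    infer_instance
  obtain ⟨I, hI, e', he', hie⟩ := exists_hopfIdeal k (u ≫ e.hom)
  have hnorm : AlgGrp.IsNormalHom (u ≫ e.hom) := by
    intro T g n
    obtain ⟨n', hn'⟩ := hn T (g ≫ e.inv) n
    refine ⟨n', ?_⟩
    have h1 := congr($hn' ≫ e.hom)
    rw [MonObj.mul_comp, MonObj.mul_comp, GrpObj.inv_comp, Category.assoc, Category.assoc,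
      Category.assoc, Iso.inv_hom_id, Category.comp_id] at h1
    exact h1
  have hnI : SGA3.IsNormalHopfIdeal k A I := by
    intro R _ _ g h hh a ha
    rw [DynBasic.conv3_eq]
    exact conj_mem_of_isNormalHom k (u ≫ e.hom) I e' hie hnorm g h hh a ha
  obtain ⟨B, _, _, φ, hft', hφ, hIB⟩ := Groth.Agent.Agf.H593.QuotPt.core k A I hnI
  have hIB' : I = K206.Split.augI φ := hIB
  subst hIB'
  have hff := CoidealFlat.faithfullyFlat_of_injective φ hφ
  have hfs := (flat_and_surjective_specMap_iff k (φ : B →ₐ[k] A)).2 hff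
  have hmon : IsMonHom (specMap k (φ : B →ₐ[k] A)) := isMonHom_specMap k φ
  have hkern : AlgGrp.IsKernel u (e.hom ≫ specMap k (φ : B →ₐ[k] A)) := by
    have hk := isKernel_specMap k (φ : B →ₐ[k] A) (K206.Split.augI φ) hIB
    refine IsPullback.of_iso hk e'.symm e.symm (Iso.refl _) (Iso.refl _) ?_ ?_ ?_ ?_
    · change specMap k (Ideal.Quotient.mkₐ k (K206.Split.augI φ)) ≫ e.inv = e'.inv ≫ u
      rw [Iso.eq_inv_comp, ← Category.assoc, hie, Category.assoc, Iso.hom_inv_id,
        Category.comp_id]
    · exact toUnit_unique _ _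
    · simp
    · simp
  have hUconn : ConnectedSpace U.left := by
    have h4 : Surjective (Red.geomPt s) := Groth.Agent.Agf.H614.FieldGlue.surjective_geomPt s
    have h5 : Surjective (Limits.pullback.fst U.hom (Red.geomPt s)) := inferInstance
    have h6 : ConnectedSpace ↥(Limits.pullback U.hom (Red.geomPt s)) := (hfib s).1
    exact h5.surj.connectedSpace (Limits.pullback.fst U.hom (Red.geomPt s)).continuous
  refine ⟨A, inferInstance, inferInstance, B, inferInstance, inferInstance, e, φ, he, hft, hφ, ?_, ?_,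
    hkern⟩
  · -- unipotence
    have hsm : Smooth (SpecOver k (A ⧸ K206.Split.augI φ)).hom := by
      rw [hom_eq_of_iso e'.symm]; infer_instance
    have hcon : ConnectedSpace ↥(SpecOver k (A ⧸ K206.Split.augI φ)).left :=
      (Scheme.homeoOfIso (asIso e'.hom.left)).surjective.connectedSpace
        (Scheme.homeoOfIso (asIso e'.hom.left)).continuous
    apply K543.UnipPts.isUnipotent_of_hasNoSubtorus
    intro s
    let e'' : Red.geomFibre s U ≅ Red.geomFibre s (SpecOver k (A ⧸ K206.Split.augI φ)) :=
      (Over.pullback (Red.geomPt s)).mapIso e'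
    have he' : IsMonHom e''.hom := inferInstanceAs (IsMonHom ((Over.pullback (Red.geomPt s)).map e'.hom))
    exact RadOpen.hasNoSubtorus_of_iso e'' (hfib s).2
  · -- linear reductivity
    have hchar : CharZero (Om k s) :=
      charZero_of_injective_algebraMap (algebraMap k (Om k s)).injective
    have hrad := K494.RadSch.isURad_gmPts e s u hU
    have hsur : Surjective (e.hom ≫ specMap k (φ : B →ₐ[k] A)).left := by
      rw [Over.comp_left]
      have := hfs.2
      infer_instance
    have hq : (e.hom ≫ specMap k (φ : B →ₐ[k] A)) ≫ (Iso.refl (SpecOver k B)).hom =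
        e.hom ≫ specMap k (φ : B →ₐ[k] A) := by
      rw [Iso.refl_hom, Category.comp_id]
    have hrefl : IsMonHom (Iso.refl (SpecOver k B)).hom := inferInstanceAs (IsMonHom (𝟙 _))
    have hker := K494.HomDict.ker_eq (K := Om k s) e (Iso.refl (SpecOver k B)) hq u hkern
    have hs := K494.HomDict.surjective_map (Om k s) e (Iso.refl (SpecOver k B)) hq
    have hredA : _root_.IsReduced (Om k s ⊗[k] A) := K494.RadSch.isReduced_tensor e
    have hred : IsRedPt (Om k s) (Om k s ⊗[k] B) := isRedPt_of_ker _ hs hker hrad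
    have hinj : Function.Injective (Sga3A.BCIso.mapBialg (Om k s) φ) := by
      have h1 : Function.Injective (LinearMap.lTensor (Om k s) ((φ : B →ₐ[k] A).toLinearMap)) :=
        Module.Flat.lTensor_preserves_injective_linearMap _ hφ
      exact h1
    have hredB : IsReduced (Om k s ⊗[k] B) :=
      isReduced_of_injective (Sga3A.BCIso.mapBialg (Om k s) φ : Om k s ⊗[k] B →ₐ[Om k s] Om k s ⊗[k] A)
        hinj
    have hlr := K192.RedQuot.isLinearlyReductive hred
    exact (Groth.Agent.S18813.result k (Om k s) B).2 hlr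

end K206.RadQuot
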