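import Groth.Agent.RedSub.K197.QuotPts

/-!
# The quotient by a subgroup which is an equivariant retract
-/

set_option autoImplicit false

universe u

open CategoryTheory Limits MonoidalCategory CartesianMonoidalCategory MonObj GrpObj AlgebraicGeometry

namespace K206.RetQuot

open K197.Fppf K197.QuotPts

variable {S : Scheme.{u}} {G H : Over S} [GrpObj G] [GrpObj H]

/-- A morphism `n : G ⟶ H` is an equivariant retraction onto the subgroup `i : H ⟶ G`. -/
def IsEqRet (i : H ⟶ G) (n : G ⟶ H) : Prop :=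
  ∀ (T : Over S) (g : T ⟶ G) (h : T ⟶ H), (g * (h ≫ i)) ≫ n = (g ≫ n) * h

variable {i : H ⟶ G} [IsMonHom i] {n : G ⟶ H} (hn : IsEqRet i n)

/-- `g ↦ g n(g)⁻¹`. -/
noncomputable def nor (i : H ⟶ G) (n : G ⟶ H) : G ⟶ G := 𝟙 G * (n⁻¹ ≫ i)

lemma comp_nor {T : Over S} (g : T ⟶ G) : g ≫ nor i n = g * ((g ≫ n)⁻¹ ≫ i) := by
  rw [nor, MonObj.comp_mul, Category.comp_id, ← Category.assoc, GrpObj.comp_inv]

include hn in
lemma nor_comp : nor i n ≫ n = 1 := by
  rw [nor, hn, Category.id_comp, _root_.mul_inv_cancel]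

/-- The fibre of the retraction. -/
noncomputable abbrev Fib (n : G ⟶ H) : Over S := pullback n η[H]

/-- The inclusion of the fibre of the retraction. -/
noncomputable abbrev fibι (n : G ⟶ H) : Fib n ⟶ G := pullback.fst n η[H]

lemma fibι_comp : fibι n ≫ n = 1 := by
  rw [pullback.condition, Hom.one_def]
  congr 1
  exact toUnit_unique _ _

instance : Mono (fibι n) := by
  have h1 : Mono η[H] := ⟨fun _ _ _ => toUnit_unique _ _⟩
  infer_instance

/-- The quotient morphism. -/
noncomputable def qm : G ⟶ Fib n := pullback.lift (nor i n) (toUnit G) (by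
  rw [nor_comp hn]
  exact Hom.one_def)

lemma qm_comp : qm hn ≫ fibι n = nor i n := pullback.lift_fst _ _ _

lemma mul_comp_qm {T : Over S} (g : T ⟶ G) (h : T ⟶ H) : (g * (h ≫ i)) ≫ qm hn = g ≫ qm hn := by
  rw [← cancel_mono (fibι n), Category.assoc, Category.assoc, qm_comp, comp_nor, comp_nor, hn,
    _root_.mul_inv_rev, MonObj.mul_comp, GrpObj.inv_comp, _root_.mul_assoc, _root_.mul_inv_cancel_left]

lemma fib_comp_qm {T : Over S} (x : T ⟶ Fib n) : (x ≫ fibι n) ≫ qm hn = x := by
  rw [← cancel_mono (fibι n), Category.assoc, qm_comp, comp_nor, Category.assoc, fibι_comp,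
    MonObj.comp_one, inv_one, MonObj.one_comp, _root_.mul_one]

lemma decomp {T : Over S} (g : T ⟶ G) : g = ((g ≫ qm hn) ≫ fibι n) * ((g ≫ n) ≫ i) := by
  rw [Category.assoc, qm_comp, comp_nor, GrpObj.inv_comp, _root_.mul_assoc, _root_.inv_mul_cancel,
    _root_.mul_one]

lemma isPullback : IsPullback n (qm hn) (toUnit H) (toUnit (Fib n)) := by
  refine isPullback_of_pts (toUnit_unique _ _) ?_ ?_
  · intro T y x _
    refine ⟨(x ≫ fibι n) * (y ≫ i), ?_, ?_⟩
    · rw [hn, Category.assoc, fibι_comp, MonObj.comp_one, _root_.one_mul]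
    · rw [mul_comp_qm, fib_comp_qm]
  · intro T a a' h1 h2
    rw [decomp hn a, decomp hn a', h1, h2]

lemma isCov_toUnit [Flat H.hom] [LocallyOfFinitePresentation H.hom] : IsCov (toUnit H) := by
  have h1 : (toUnit H).left = H.hom := by
    have h2 := Over.w (toUnit H)
    rw [Over.tensorUnit_hom] at h2
    exact (Category.comp_id _).symm.trans h2
  have hs : Surjective H.hom := by
    have h3 : (η[H]).left ≫ H.hom = 𝟙 S := Over.w η[H]
    refine ⟨fun s => ⟨(η[H]).left s, ?_⟩⟩
    rw [← Scheme.Hom.comp_apply, h3]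
    rfl
  refine ⟨?_, ?_, ?_⟩ <;> rw [h1] <;> assumption

/-- **The quotient.** -/
theorem isQuotient [Mono i] [Flat H.hom] [LocallyOfFinitePresentation H.hom] :
    RedSub.IsQuotient i (qm hn) := by
  refine isQuotient_of_pts (IsCov.of_isPullback (isPullback hn) isCov_toUnit)
    (fun T g h => mul_comp_qm hn g h) ?_
  intro T g g' h
  refine ⟨(g ≫ n)⁻¹ * (g' ≫ n), ?_⟩
  conv_lhs => rw [decomp hn g', ← h]
  rw [MonObj.mul_comp, ← _root_.mul_assoc]
  congr 1
  rw [Category.assoc, qm_comp, comp_nor]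

lemma isClosedImmersion_fibι [IsSeparated H.hom] : IsClosedImmersion (fibι n).left := by
  have h1 : IsClosedImmersion (η[H]).left := by
    have h3 : (η[H]).left ≫ H.hom = 𝟙 S := Over.w η[H]
    have h4 : IsClosedImmersion ((η[H]).left ≫ H.hom) := by
      rw [h3]
      exact (inferInstance : IsClosedImmersion (𝟙 S))
    exact IsClosedImmersion.of_comp _ H.hom
  have h2 := (IsPullback.of_hasPullback n η[H]).map (Over.forget S)
  exact MorphismProperty.of_isPullback (P := @IsClosedImmersion) h2.flip h1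

end K206.RetQuot
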