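import Groth.Agent.AlgGrp.K395.Pts

/-!
# Sections of a quotient homomorphism give complements
-/

set_option autoImplicit false

universe u

open CategoryTheory MonoidalCategory CartesianMonoidalCategory MonObj GrpObj AlgebraicGeometry

namespace K206.Semi

variable {S : Scheme.{u}} {G Q U : Over S} [GrpObj G] [GrpObj Q] [GrpObj U] (u : U ⟶ G) (q : G ⟶ Q)
  [IsMonHom q] [IsMonHom u]

/-- **The image of a section is a complement of the kernel.** -/
theorem isIso_mul_of_section (hk : AlgGrp.IsKernel u q) [Mono u] (l : Q ⟶ G) [IsMonHom l]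
    (hl : l ≫ q = 𝟙 Q) : IsIso ((l ⊗ₘ u) ≫ μ[G]) := by
  have h0 : ((q ≫ l)⁻¹ * 𝟙 G) ≫ q = 1 := by
    rw [MonObj.mul_comp, GrpObj.inv_comp, Category.assoc, hl, Category.comp_id, Category.id_comp,
      inv_mul_cancel]
  obtain ⟨w, hw⟩ := K395.Pts.exists_of_comp_eq_one hk _ h0
  have hm : (l ⊗ₘ u) ≫ μ[G] = (fst Q U ≫ l) * (snd Q U ≫ u) := by
    rw [Hom.mul_def]
    congr 1
  refine ⟨lift q w, ?_, ?_⟩
  · have h1 : ((l ⊗ₘ u) ≫ μ[G]) ≫ q = fst Q U := by
      rw [hm, MonObj.mul_comp, K395.Pts.comp_eq_one hk (snd Q U), _root_.mul_one, Category.assoc, hl,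
        Category.comp_id]
    have h2 : ((l ⊗ₘ u) ≫ μ[G]) ≫ w = snd Q U := by
      rw [← cancel_mono u, Category.assoc, hw, MonObj.comp_mul, GrpObj.comp_inv, ← Category.assoc, h1,
        Category.comp_id, hm, inv_mul_cancel_left]
    apply CartesianMonoidalCategory.hom_ext
    · rw [Category.assoc, lift_fst, h1, Category.id_comp]
    · rw [Category.assoc, lift_snd, h2, Category.id_comp]
  · rw [hm, MonObj.comp_mul, ← Category.assoc, ← Category.assoc, lift_fst, lift_snd, hw,
      mul_inv_cancel_left]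

end K206.Semi
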