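import Groth.Agent.PrincBund.K206.Step
import Groth.Agent.Sga3.H808.Retract

/-!
# Splitting of extensions of linearly reductive groups by unipotent groups (characteristic zero)
-/

set_option autoImplicit false
set_option maxHeartbeats 400000

universe u

open TensorProduct WithConv Coalgebra HopfRep
open Groth.Agent.Books.DynBasic K206.KerPts K206.AffMod K206.AffComod K206.Step

namespace K206.Split

variable {k : Type u} [Field k] {A B : Type u} [CommRing A] [HopfAlgebra k A] [CommRing B]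
  [HopfAlgebra k B] (φ : B →ₐc[k] A)

/-- the ideal of the kernel of the homomorphism with comorphism `φ` -/
def augI : Ideal A := Ideal.map (φ : B →+* A) (RingHom.ker (Bialgebra.counitAlgHom k B))

variable {φ}

lemma kills_augI {R : Type u} [CommRing R] [Algebra k R] (g : WithConv (A →ₐ[k] R)) :
    (∀ a ∈ augI φ, g.ofConv a = 0) ↔ resPt φ g = 1 := by
  constructor
  · intro h
    apply WithConv.ofConv_injective
    ext b
    rw [resPt_apply, one_ofConv_apply]
    have h1 : φ (b - algebraMap k B (counit b)) ∈ augI φ := by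
      apply Ideal.mem_map_of_mem
      rw [RingHom.mem_ker, map_sub, AlgHom.commutes]
      exact sub_self _
    have h2 := h _ h1
    have h3 : φ (b - algebraMap k B (counit b)) = φ b - algebraMap k A (counit b) := by
      change (φ : B →ₐ[k] A) _ = _
      rw [map_sub, AlgHom.commutes]
      rfl
    rw [h3, map_sub, AlgHom.commutes, sub_eq_zero] at h2
    exact h2
  · intro h
    have h1 : augI φ ≤ RingHom.ker g.ofConv := by
      rw [augI, Ideal.map_le_iff_le_comap]
      intro b hb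
      rw [Ideal.mem_comap, RingHom.mem_ker]
      have h2 : (resPt φ g).ofConv b = (1 : WithConv (B →ₐ[k] R)).ofConv b := by rw [h]
      rw [one_ofConv_apply] at h2
      have h3 : counit (R := k) b = 0 := hb
      rw [h3, map_zero] at h2
      exact h2
    exact fun a ha => h1 ha

instance isHopfIdeal_augI : (augI φ).IsHopfIdeal k := by
  apply Groth.Agent.Books.DynLim.isHopfIdeal_of_points
  · have h1 := (kills_augI (φ := φ) (1 : WithConv (A →ₐ[k] k))).2 (map_one _)
    intro a ha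
    have h2 := h1 a ha
    rw [one_ofConv_apply] at h2
    exact h2
  · intro R _ _ g h hg hh
    rw [kills_augI] at hg hh ⊢
    rw [map_mul, hg, hh, one_mul]
  · intro R _ _ g hg
    rw [kills_augI] at hg ⊢
    rw [map_inv, hg, inv_one]

lemma isHopfKer_augI :
    IsHopfKer φ (Bialgebra.Quotient.mkBialgHom (R := k) (augI φ)) where
  surj := Ideal.Quotient.mk_surjective
  ker a ha := Ideal.Quotient.eq_zero_iff_mem.1 ha
  comp b := by
    change Ideal.Quotient.mk (augI φ) (φ b) = Ideal.Quotient.mk (augI φ) (algebraMap k A (counit b))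
    rw [Ideal.Quotient.eq]
    have h1 : φ b - algebraMap k A (counit b) = (φ : B →+* A) (b - algebraMap k B (counit b)) := by
      rw [map_sub]
      congr 1
      exact ((φ : B →ₐ[k] A).commutes _).symm
    rw [h1]
    apply Ideal.mem_map_of_mem
    rw [RingHom.mem_ker, map_sub, AlgHom.commutes]
    exact sub_self _

/-- the data attached to an injective homomorphism -/
lemma data (hφ : Function.Injective φ) :
    Data φ (Bialgebra.Quotient.mkBialgHom (R := k) (augI φ)) ∧
    ∀ p : A ⧸ augI φ, Groth.Agent.Books.CharZeroUnip2.IsPrim k p →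
      ∃ θ : A, rho (Bialgebra.Quotient.mkBialgHom (R := k) (augI φ)) θ =
        θ ⊗ₜ[k] (1 : A ⧸ augI φ) + (1 : A) ⊗ₜ[k] p := by
  letI : Algebra B A := (φ : B →+* A).toAlgebra
  haveI : IsScalarTower k B A := IsScalarTower.of_algebraMap_eq fun x =>
    (AlgHomClass.commutes φ x).symm
  haveI : Module.FaithfullyFlat B A := Groth.Agent.MiscA.HopfFlat.faithfullyFlat φ hφ
  exact ⟨⟨hφ, isHopfKer_augI, mem_range_of_rho isHopfKer_augI (fun _ => rfl)⟩,
    fun p hp => exists_lift isHopfKer_augI (fun _ => rfl) hp⟩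

theorem exists_hopfIdeal [CharZero k] [Algebra.FiniteType k A] (hφ : Function.Injective φ)
    (hU : IsUnipotent k (A ⧸ augI φ)) {α : B →ₗ[k] k} (hα : K191.Integral.IsInt α) (h1 : α 1 = 1)
    (hns : ¬ Function.Surjective φ) :
    ∃ I : Ideal A, I.IsHopfIdeal k ∧ I ≠ ⊥ ∧ ∀ b, φ b ∈ I → b = 0 := by
  obtain ⟨D, hlift⟩ := data hφ
  obtain ⟨T, hc, hT⟩ := D.exists_compl hα h1
  have : Algebra.FiniteType k (A ⧸ augI φ) := inferInstance
  exact ⟨idl T, isHopfIdeal_idl T hT, ne_bot D hU hlift hns T hc,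
    fun b hb => eq_zero_of_mem_idl D hU T hc b hb⟩

theorem exists_larger [CharZero k] [Algebra.FiniteType k A]
    (hU : IsUnipotent k (A ⧸ augI φ)) {α : B →ₗ[k] k} (hα : K191.Integral.IsInt α) (h1 : α 1 = 1)
    (I : Ideal A) (hI : I.IsHopfIdeal k)
    (hI0 : ∀ b, φ b ∈ I → b = 0) (hns : ¬ ∀ a, ∃ b, a - φ b ∈ I) :
    ∃ I' : Ideal A, I < I' ∧ I'.IsHopfIdeal k ∧ ∀ b, φ b ∈ I' → b = 0 := by
  let mkI : A →ₐc[k] A ⧸ I := Bialgebra.Quotient.mkBialgHom (R := k) I
  have hmkI : ∀ a, mkI a = Ideal.Quotient.mk I a := fun a => rfl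
  let φ' : B →ₐc[k] A ⧸ I := mkI.comp φ
  have hφ' : Function.Injective φ' := by
    rw [injective_iff_map_eq_zero]
    intro b hb
    exact hI0 b (Ideal.Quotient.eq_zero_iff_mem.1 hb)
  have hns' : ¬ Function.Surjective φ' := by
    intro hs
    apply hns
    intro a
    obtain ⟨b, hb⟩ := hs (mkI a)
    refine ⟨b, ?_⟩
    have h1 : Ideal.Quotient.mk I (φ b) = Ideal.Quotient.mk I a := hb
    exact (Ideal.Quotient.eq.1 h1.symm)
  let π : (A ⧸ I) →ₐc[k] ((A ⧸ I) ⧸ augI φ') := Bialgebra.Quotient.mkBialgHom (R := k) (augI φ')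
  have hU' : IsUnipotent k ((A ⧸ I) ⧸ augI φ') := by
    have h2 : ∀ a ∈ augI φ, (π.comp mkI) a = 0 := by
      have h3 : augI φ ≤ RingHom.ker ((π.comp mkI : A →ₐc[k] ((A ⧸ I) ⧸ augI φ')) :
          A →ₐ[k] ((A ⧸ I) ⧸ augI φ')) := by
        rw [augI, Ideal.map_le_iff_le_comap]
        intro b hb
        rw [Ideal.mem_comap, RingHom.mem_ker]
        change π (φ' b) = 0
        have h4 : φ' b ∈ augI φ' := Ideal.mem_map_of_mem _ hb
        exact Ideal.Quotient.eq_zero_iff_mem.2 h4
      exact fun a ha => h3 ha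
    refine Groth.Agent.Sga3.H808.Retract.isUnipotent_of_surjective
      (Groth.Agent.Books.NormalKer.liftBialg (augI φ) (π.comp mkI) h2) ?_ hU
    intro c
    obtain ⟨c, rfl⟩ := Ideal.Quotient.mk_surjective c
    obtain ⟨a, rfl⟩ := Ideal.Quotient.mk_surjective c
    exact ⟨Ideal.Quotient.mk (augI φ) a, rfl⟩
  obtain ⟨I₁, hI₁, hI₁0, hI₁b⟩ := exists_hopfIdeal hφ' hU' hα h1 hns'
  let mkF : (A ⧸ I) →ₐc[k] ((A ⧸ I) ⧸ I₁) := Bialgebra.Quotient.mkBialgHom (R := k) I₁
  have hmem : ∀ a, a ∈ Groth.Agent.MiscA.HopfRange.kerI (mkF.comp mkI) ↔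
      Ideal.Quotient.mk I a ∈ I₁ := by
    intro a
    rw [← Ideal.Quotient.eq_zero_iff_mem (I := I₁)]
    rfl
  refine ⟨Groth.Agent.MiscA.HopfRange.kerI (mkF.comp mkI), ?_, inferInstance, ?_⟩
  · obtain ⟨F, hF1, hF0⟩ := Submodule.exists_mem_ne_zero_of_ne_bot hI₁0
    obtain ⟨f, hf⟩ := Ideal.Quotient.mk_surjective F
    refine lt_of_le_of_ne ?_ ?_
    · intro a ha
      rw [hmem, Ideal.Quotient.eq_zero_iff_mem.2 ha]
      exact Ideal.zero_mem _
    · intro heq
      have h1 : f ∈ Groth.Agent.MiscA.HopfRange.kerI (mkF.comp mkI) := by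
        rw [hmem, hf]
        exact hF1
      rw [← heq] at h1
      exact hF0 (by rw [← hf]; exact Ideal.Quotient.eq_zero_iff_mem.2 h1)
  · intro b hb
    rw [hmem] at hb
    exact hI₁b b hb

/-- **Splitting.** -/
theorem exists_retraction_of_int [CharZero k] [Algebra.FiniteType k A] (hφ : Function.Injective φ)
    (hU : IsUnipotent k (A ⧸ augI φ)) {α : B →ₗ[k] k} (hα : K191.Integral.IsInt α) (h1 : α 1 = 1) :
    ∃ r : A →ₐc[k] B, r.comp φ = BialgHom.id k B := by
  have hN : IsNoetherianRing A := Algebra.FiniteType.isNoetherianRing k A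
  -- a maximal Hopf ideal meeting `B` trivially
  let S : Set (Ideal A) := {I | I.IsHopfIdeal k ∧ ∀ b, φ b ∈ I → b = 0}
  have hS : S.Nonempty := by
    refine ⟨⊥, ?_, ?_⟩
    · apply Groth.Agent.Books.DynLim.isHopfIdeal_of_points
      · intro a ha
        rw [(Ideal.mem_bot).1 ha, map_zero]
      · intro R _ _ g h _ _ a ha
        rw [(Ideal.mem_bot).1 ha, map_zero]
      · intro R _ _ g _ a ha
        rw [(Ideal.mem_bot).1 ha, map_zero]
    · intro b hb
      apply hφ
      rw [map_zero]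
      exact hb
  obtain ⟨I, ⟨hI, hI0⟩, hmax⟩ := set_has_maximal_iff_noetherian.2
    (inferInstance : IsNoetherian A A) S hS
  have hsurj : ∀ a, ∃ b, a - φ b ∈ I := by
    by_contra hns
    obtain ⟨I', hlt, hI', hI'0⟩ := exists_larger hU hα h1 I hI hI0 hns
    exact hmax I' ⟨hI', hI'0⟩ hlt
  let mkI : A →ₐc[k] A ⧸ I := Bialgebra.Quotient.mkBialgHom (R := k) I
  let φ' : B →ₐc[k] A ⧸ I := mkI.comp φ
  have hφ' : Function.Injective φ' := by
    rw [injective_iff_map_eq_zero]
    intro b hb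
    exact hI0 b (Ideal.Quotient.eq_zero_iff_mem.1 hb)
  have hs' : Function.Surjective φ' := by
    intro a
    obtain ⟨a, rfl⟩ := Ideal.Quotient.mk_surjective a
    obtain ⟨b, hb⟩ := hsurj a
    exact ⟨b, (Ideal.Quotient.eq.2 hb).symm⟩
  let e : B ≃ₐc[k] (A ⧸ I) := BialgEquiv.ofBijective φ' ⟨hφ', hs'⟩
  refine ⟨(e.symm : (A ⧸ I) →ₐc[k] B).comp mkI, ?_⟩
  apply BialgHom.ext
  intro b
  change e.symm (mkI (φ b)) = b
  exact e.symm_apply_apply b

end K206.Split
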