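import Groth.Agent.PrincBund.K206.AffComod
import Groth.Agent.Books.CharZeroUnip3
import Groth.Agent.Books.DynLim
import Groth.Agent.S4103
import Groth.Agent.S3264
import Mathlib.LinearAlgebra.Basis.VectorSpace

/-!
# The step of the splitting theorem

In characteristic zero, `φ : B → A` injective with unipotent cokernel `H` and `B` linearly reductive:
if `φ` is not surjective, `A` has a nonzero Hopf ideal meeting `B` trivially.
-/

set_option autoImplicit false
set_option maxHeartbeats 400000

universe u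

open TensorProduct WithConv Coalgebra HopfRep
open Groth.Agent.Books.DynBasic K206.KerPts K206.AffMod K206.AffComod
open Groth.Agent.Books.CharZeroUnip2

namespace K206.Step

variable {k : Type u} [Field k] {A B H : Type u} [CommRing A] [HopfAlgebra k A] [CommRing B]
  [HopfAlgebra k B] [CommRing H] [HopfAlgebra k H] {φ : B →ₐc[k] A} {π : A →ₐc[k] H}

/-- a subalgebra generated by primitive elements is a Hopf subalgebra -/
lemma isHopfSubalgebra_adjoin {ι : Type u} (p : ι → H) (hp : ∀ i, IsPrim k (p i)) :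
    SGA3.IsHopfSubalgebra k H (Algebra.adjoin k (Set.range p)) := by
  let C : Subalgebra k H := Algebra.adjoin k (Set.range p)
  have hmem : ∀ i, p i ∈ C := fun i => Algebra.subset_adjoin ⟨i, rfl⟩
  constructor
  · intro b hb
    let R : Subalgebra k (H ⊗[k] H) := (Algebra.TensorProduct.map C.val C.val).range
    have h1 : C ≤ R.comap (Bialgebra.comulAlgHom k H) := by
      apply Algebra.adjoin_le
      rintro _ ⟨i, rfl⟩
      change comul (R := k) (p i) ∈ R
      rw [hp i]
      refine R.add_mem ⟨⟨p i, hmem i⟩ ⊗ₜ 1, ?_⟩ ⟨1 ⊗ₜ ⟨p i, hmem i⟩, ?_⟩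
      · simp
      · simp
    obtain ⟨w, hw⟩ := h1 hb
    exact ⟨w, hw⟩
  · intro b hb
    have h1 : C ≤ C.comap (HopfAlgebra.antipodeAlgHom k H) := by
      apply Algebra.adjoin_le
      rintro _ ⟨i, rfl⟩
      change HopfAlgebra.antipodeAlgHom k H (p i) ∈ C
      have h2 : HopfAlgebra.antipodeAlgHom k H (p i) = - p i := by
        have h3 := HopfAlgebra.mul_antipode_rTensor_comul_apply (R := k) (p i)
        have h4 : comul (R := k) (p i) = p i ⊗ₜ[k] (1 : H) + (1 : H) ⊗ₜ[k] p i := hp i
        rw [h4, (hp i).counit] at h3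
        simp only [map_add, LinearMap.rTensor_tmul, LinearMap.mul'_apply, mul_one, map_zero,
          HopfAlgebra.antipode_one, one_mul] at h3
        exact eq_neg_of_add_eq_zero_left h3
      rw [h2]
      exact C.neg_mem (hmem i)
    exact h1 hb

/-- the projection of an additive function is primitive -/
lemma isPrim_of_mem {a : A} (ha : a ∈ AM π) : IsPrim k (π a) := by
  have h1 : comul (R := k) (π a) = TensorProduct.map (π : A →ₐ[k] H).toLinearMap
      (π : A →ₐ[k] H).toLinearMap (comul (R := k) a) :=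
    (CoalgHomClass.map_comp_comul_apply π a).symm
  have h2 : ∀ z : A ⊗[k] A, TensorProduct.map (π : A →ₐ[k] H).toLinearMap
      (π : A →ₐ[k] H).toLinearMap z = (π : A →ₐ[k] H).toLinearMap.rTensor H
        (TensorProduct.map LinearMap.id (π : A →ₐ[k] H).toLinearMap z) := by
    intro z
    induction z with
    | zero => simp
    | add x y hx hy => simp only [map_add, hx, hy]
    | tmul x y => simp
  rw [IsPrim, h1, h2, ← rho_apply, (mem_AM π a).1 ha, map_add, LinearMap.rTensor_tmul,
    LinearMap.rTensor_tmul, AlgHom.toLinearMap_apply, AlgHom.toLinearMap_apply, map_one]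
  rfl

variable (D : Data φ π)

include D

lemma eq_zero_of_pi (T : Submodule k (AM π)) (hc : IsCompl D.W T) {t : AM π} (ht : t ∈ T)
    (h : π (t : A) = 0) : t = 0 := by
  have h1 := (mem_AM π (t : A)).1 t.2
  rw [h, tmul_zero, add_zero] at h1
  have h2 : t ∈ D.W := (D.mem_W t).2 (D.inv _ h1)
  exact (Submodule.mem_bot k).1 (hc.disjoint.le_bot ⟨h2, ht⟩)

/-- the ideal generated by a complement -/
def idl (T : Submodule k (AM π)) : Ideal A := Ideal.span ((fun t : AM π => (t : A)) '' (T : Set (AM π)))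

omit D in
lemma kills_idl {R : Type u} [CommRing R] [Algebra k R] {T : Submodule k (AM π)}
    {g : A →ₐ[k] R} (h : ∀ t ∈ T, g (t : A) = 0) : ∀ a ∈ idl T, g a = 0 := by
  have h1 : idl T ≤ RingHom.ker g := by
    rw [idl, Ideal.span_le]
    rintro _ ⟨t, ht, rfl⟩
    exact h t ht
  exact fun a ha => h1 ha

omit D in
lemma mem_idl {T : Submodule k (AM π)} {t : AM π} (ht : t ∈ T) : (t : A) ∈ idl T :=
  Ideal.subset_span ⟨t, ht, rfl⟩

omit D in
theorem isHopfIdeal_idl (T : Submodule k (AM π)) (hT : ∀ t ∈ T, ∃ w : T ⊗[k] B, redc k A (t : A) =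
      TensorProduct.map (AM π).subtype (φ : B →ₐ[k] A).toLinearMap (T.subtype.rTensor B w)) :
    (idl T).IsHopfIdeal k := by
  have key : ∀ {R : Type u} [CommRing R] [Algebra k R] (g h : WithConv (A →ₐ[k] R)),
      (∀ a ∈ idl T, g.ofConv a = 0) → ∀ t ∈ T, (g * h).ofConv (t : A) = h.ofConv (t : A) := by
    intro R _ _ g h hg t ht
    obtain ⟨w, hw⟩ := hT t ht
    have h1 : ∀ w : T ⊗[k] B, Algebra.TensorProduct.lift g.ofConv h.ofConv (fun _ _ => Commute.all _ _)
        (TensorProduct.map (AM π).subtype (φ : B →ₐ[k] A).toLinearMap (T.subtype.rTensor B w)) = 0 := by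
      intro w
      induction w with
      | zero => simp
      | add x y hx hy => simp only [map_add, hx, hy, add_zero]
      | tmul x y =>
        rw [LinearMap.rTensor_tmul, TensorProduct.map_tmul, Algebra.TensorProduct.lift_tmul,
          Submodule.subtype_apply, Submodule.subtype_apply, hg _ (mem_idl x.2), zero_mul]
    have h2 := h1 w
    rw [← hw, redc_apply, map_sub, ← mul_ofConv_apply, Algebra.TensorProduct.lift_tmul, map_one,
      one_mul, sub_eq_zero] at h2
    exact h2
  apply Groth.Agent.Books.DynLim.isHopfIdeal_of_points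
  · have h1 : idl T ≤ RingHom.ker (Bialgebra.counitAlgHom k A) := by
      rw [idl, Ideal.span_le]
      rintro _ ⟨t, ht, rfl⟩
      exact counit_eq_zero t.2
    exact fun a ha => h1 ha
  · intro R _ _ g h hg hh
    apply kills_idl
    intro t ht
    rw [key g h hg t ht, hh _ (mem_idl ht)]
  · intro R _ _ g hg
    apply kills_idl
    intro t ht
    have h1 := key g g⁻¹ hg t ht
    rw [mul_inv_cancel, one_ofConv_apply, counit_eq_zero t.2, map_zero] at h1
    exact h1.symm

/-- **The ideal generated by the complement meets `B` trivially.** -/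
theorem eq_zero_of_mem_idl [CharZero k] (hU : IsUnipotent k H) (T : Submodule k (AM π))
    (hc : IsCompl D.W T) (b : B) (hb : φ b ∈ idl T) : b = 0 := by
  classical
  -- a basis of `T` and its image in `H`
  let bs := Module.Basis.ofVectorSpace k T
  let t : Module.Basis.ofVectorSpaceIndex k T → A := fun i => ((bs i : AM π) : A)
  let p : Module.Basis.ofVectorSpaceIndex k T → H := fun i => π (t i)
  have hp : ∀ i, IsPrim k (p i) := fun i => isPrim_of_mem (bs i : AM π).2
  let πT : T →ₗ[k] H := (π : A →ₐ[k] H).toLinearMap ∘ₗ (AM π).subtype ∘ₗ T.subtype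
  have hker : LinearMap.ker πT = ⊥ := by
    rw [LinearMap.ker_eq_bot']
    intro x hx
    exact Subtype.ext (eq_zero_of_pi D T hc x.2 hx)
  have hli : LinearIndependent k p := bs.linearIndependent.map' πT hker
  have hai : AlgebraicIndependent k p :=
    Groth.Agent.Books.CharZeroUnip3.algebraicIndependent_of_isPrim
      ((Groth.Agent.Books.ComodSocle.isUnipotent_iff).1 hU) p hp hli
  let C : Subalgebra k H := Algebra.adjoin k (Set.range p)
  have hff : Module.FaithfullyFlat C H :=
    Groth.Agent.S4103.result k H C (isHopfSubalgebra_adjoin p hp)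
  -- the map `C → A`, `p i ↦ - t i`
  let c : C →ₐ[k] A := (MvPolynomial.aeval (fun i => - t i)).comp
    (hai.aevalEquiv.symm : C →ₐ[k] MvPolynomial _ k)
  have hcp : ∀ i, c ⟨p i, Algebra.subset_adjoin ⟨i, rfl⟩⟩ = - t i := by
    intro i
    change MvPolynomial.aeval (fun i => - t i) (hai.aevalEquiv.symm ⟨p i, _⟩) = _
    have h1 : hai.aevalEquiv.symm ⟨p i, Algebra.subset_adjoin ⟨i, rfl⟩⟩ = MvPolynomial.X i := by
      rw [AlgEquiv.symm_apply_eq]
      apply Subtype.ext
      have h2 := hai.algebraMap_aevalEquiv (MvPolynomial.X i)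
      rw [MvPolynomial.aeval_X] at h2
      exact h2.symm
    rw [h1, MvPolynomial.aeval_X]
  have hmemC : ∀ x : T, πT x ∈ C := by
    intro x
    rw [← bs.linearCombination_repr x, Finsupp.linearCombination_apply, Finsupp.sum, map_sum]
    refine C.sum_mem fun i _ => ?_
    rw [map_smul]
    exact C.smul_mem (Algebra.subset_adjoin ⟨i, rfl⟩) _
  let πC : T →ₗ[k] C := LinearMap.codRestrict (Subalgebra.toSubmodule C) πT hmemC
  have hcT : c.toLinearMap ∘ₗ πC = - ((AM π).subtype ∘ₗ T.subtype) := by
    apply bs.ext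
    intro i
    exact hcp i
  letI : Algebra C A := c.toRingHom.toAlgebra
  have hsmul : ∀ (x : C) (a : A), x • a = c x * a := fun x a => rfl
  haveI : IsScalarTower k C A := ⟨fun r x a => by
    rw [hsmul, hsmul, map_smul, smul_mul_assoc]⟩
  let G : WithConv (A →ₐ[k] H ⊗[C] A) := toConv
    ((Algebra.TensorProduct.includeRight : A →ₐ[C] H ⊗[C] A).restrictScalars k)
  let N : H →ₐ[k] H ⊗[C] A :=
    (Algebra.TensorProduct.includeLeft : H →ₐ[C] H ⊗[C] A).restrictScalars k
  have hkill : ∀ a ∈ idl T, (G * toConv (N.comp (π : A →ₐ[k] H))).ofConv a = 0 := by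
    apply kills_idl
    intro x hx
    rw [mul_kernel_apply x.2]
    change (1 : H) ⊗ₜ[C] ((x : AM π) : A) + (π ((x : AM π) : A)) ⊗ₜ[C] (1 : A) = 0
    have h1 : c (πC ⟨x, hx⟩) = - ((x : AM π) : A) := LinearMap.congr_fun hcT ⟨x, hx⟩
    have h2 : π ((x : AM π) : A) = (πC ⟨x, hx⟩) • (1 : H) := by
      rw [Subalgebra.smul_def, smul_eq_mul, mul_one]
      rfl
    rw [h2, TensorProduct.smul_tmul, hsmul, h1, mul_one, tmul_neg, add_neg_cancel]
  have h1 := hkill _ hb
  rw [← lift_rho, rho_phi D.ker] at h1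
  simp only [Algebra.TensorProduct.lift_tmul, map_one, mul_one] at h1
  have h2 : (1 : H) ⊗ₜ[C] (φ b) = (1 : H) ⊗ₜ[C] (0 : A) := by
    rw [tmul_zero]
    exact h1
  have h3 : φ b = 0 := Module.FaithfullyFlat.tensorProduct_mk_injective (A := C) (B := H) A h2
  apply D.inj
  rw [h3]
  exact (map_zero (φ : B →ₐ[k] A)).symm

lemma surjective_of_trivial (h : ∀ x : H, ∃ c : k, x = algebraMap k H c) :
    Function.Surjective φ := by
  intro a
  apply D.inv
  have h1 : ∀ a : A, π a = algebraMap k H (counit (R := k) a) := by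
    intro a
    obtain ⟨c, hc⟩ := h (π a)
    have h2 : counit (R := k) (π a) = counit (R := k) a := CoalgHomClass.counit_comp_apply π a
    rw [hc] at h2 ⊢
    rw [← h2, Bialgebra.counit_algebraMap]
  have h2 : ∀ z : A ⊗[k] A, TensorProduct.map LinearMap.id (π : A →ₐ[k] H).toLinearMap z =
      (Algebra.linearMap k H).lTensor A ((counit (R := k) (A := A)).lTensor A z) := by
    intro z
    induction z with
    | zero => simp
    | add x y hx hy => simp only [map_add, hx, hy]
    | tmul x y =>
      rw [TensorProduct.map_tmul, LinearMap.lTensor_tmul, LinearMap.lTensor_tmul]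
      exact congrArg (fun z => x ⊗ₜ[k] z) (h1 y)
  rw [rho_apply, h2, Coalgebra.lTensor_counit_comul, LinearMap.lTensor_tmul]
  simp

omit D in
/-- a nontrivial unipotent group has a nonzero primitive function -/
lemma exists_prim [Algebra.FiniteType k H] (hU : IsUnipotent k H)
    (h : ¬ ∀ x : H, ∃ c : k, x = algebraMap k H c) : ∃ x : H, x ≠ 0 ∧ IsPrim k x := by
  have hbot : (⊥ : Ideal H).IsHopfIdeal k := by
    apply Groth.Agent.Books.DynLim.isHopfIdeal_of_points
    · intro a ha
      rw [(Ideal.mem_bot).1 ha, map_zero]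
    · intro R _ _ g h _ _ a ha
      rw [(Ideal.mem_bot).1 ha, map_zero]
    · intro R _ _ g _ a ha
      rw [(Ideal.mem_bot).1 ha, map_zero]
  have hne : (⊥ : Ideal H) ≠ RingHom.ker (Bialgebra.counitAlgHom k H) := by
    intro he
    apply h
    intro x
    refine ⟨counit (R := k) x, ?_⟩
    have h1 : x - algebraMap k H (counit (R := k) x) ∈ RingHom.ker (Bialgebra.counitAlgHom k H) := by
      rw [RingHom.mem_ker, map_sub, Bialgebra.counitAlgHom_apply, AlgHom.commutes]
      exact sub_self _
    rw [← he, Ideal.mem_bot, sub_eq_zero] at h1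
    exact h1
  obtain ⟨x, hx0, hx⟩ := (Groth.Agent.S3264.result k H).1 hU ⊥ hne
  obtain ⟨y, rfl⟩ := Ideal.Quotient.mk_surjective x
  have hinj : Function.Injective (Ideal.Quotient.mkₐ k (⊥ : Ideal H)) := by
    rw [injective_iff_map_eq_zero]
    intro a ha
    exact (Ideal.mem_bot).1 (Ideal.Quotient.eq_zero_iff_mem.1 ha)
  refine ⟨y, ?_, ?_⟩
  · rintro rfl
    exact hx0 (map_zero _)
  · have hinj2 : Function.Injective (TensorProduct.map (Ideal.Quotient.mkₐ k (⊥ : Ideal H)).toLinearMap
        (Ideal.Quotient.mkₐ k (⊥ : Ideal H)).toLinearMap) := by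
      rw [← LinearMap.rTensor_comp_lTensor]
      exact (Module.Flat.rTensor_preserves_injective_linearMap _ hinj).comp
        (Module.Flat.lTensor_preserves_injective_linearMap _ hinj)
    apply hinj2
    have h1 : comul (R := k) (Ideal.Quotient.mk (⊥ : Ideal H) y) = TensorProduct.map
        (Ideal.Quotient.mkₐ k (⊥ : Ideal H)).toLinearMap
        (Ideal.Quotient.mkₐ k (⊥ : Ideal H)).toLinearMap (comul (R := k) y) := rfl
    rw [← h1, hx, map_add, TensorProduct.map_tmul, TensorProduct.map_tmul]
    rfl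

/-- **The complement is nonzero.** -/
theorem ne_bot [Algebra.FiniteType k H] (hU : IsUnipotent k H)
    (hlift : ∀ p : H, IsPrim k p → ∃ θ : A, rho π θ = θ ⊗ₜ[k] (1 : H) + (1 : A) ⊗ₜ[k] p)
    (hns : ¬ Function.Surjective φ) (T : Submodule k (AM π)) (hc : IsCompl D.W T) : idl T ≠ ⊥ := by
  intro hT
  obtain ⟨p, hp0, hp⟩ := exists_prim hU fun h => hns (surjective_of_trivial D h)
  obtain ⟨θ, hθ⟩ := hlift p hp
  have h1 := counit_rho π θ
  rw [hθ, map_add, map_add, LinearMap.rTensor_tmul, LinearMap.rTensor_tmul,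
    TensorProduct.lid_tmul, TensorProduct.lid_tmul, Bialgebra.counit_one, one_smul] at h1
  let a : A := θ - algebraMap k A (counit (R := k) θ)
  have h2 : π a = p := by
    change (π : A →ₐ[k] H) (θ - algebraMap k A (counit (R := k) θ)) = p
    rw [map_sub, AlgHom.commutes]
    change π θ - _ = p
    rw [← h1, Algebra.algebraMap_eq_smul_one, add_sub_cancel_left]
  have ha : a ∈ AM π := by
    rw [mem_AM, h2]
    change rho π (θ - algebraMap k A (counit (R := k) θ)) = _
    rw [map_sub, hθ, AlgHom.commutes, sub_tmul, Algebra.algebraMap_eq_smul_one,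
      Algebra.algebraMap_eq_smul_one, Algebra.TensorProduct.one_def, smul_tmul']
    abel
  have hTb : T = ⊥ := by
    rw [eq_bot_iff]
    intro t ht
    have h3 := mem_idl ht
    rw [hT, Ideal.mem_bot] at h3
    exact (Submodule.mem_bot k).2 (Subtype.ext h3)
  have hW : D.W = ⊤ := by
    have h3 := hc.sup_eq_top
    rwa [hTb, sup_bot_eq] at h3
  obtain ⟨b, hb⟩ := (D.mem_W ⟨a, ha⟩).1 (by rw [hW]; trivial)
  change φ b = a at hb
  have h4 := counit_eq_zero ha
  rw [← hb] at h4
  have h5 : counit (R := k) (φ b) = counit (R := k) b := CoalgHomClass.counit_comp_apply φ b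
  rw [h5] at h4
  rw [← hb, D.ker.comp, h4, map_zero] at h2
  exact hp0 h2.symm

end K206.Step
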