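import Groth.Agent.PrincBund.K206.UnipRet
import Groth.Agent.PrincBund.K206.RetQuot
import Groth.Agent.Books.AffBridge2
import Groth.Agent.Sga3B.RG.BrDiag
import Groth.Agent.S0353

/-!
# Quotients of unipotent groups by closed subgroups (characteristic zero)
-/

set_option autoImplicit false

universe u

open CategoryTheory MonoidalCategory CartesianMonoidalCategory MonObj GrpObj AlgebraicGeometry
open TensorProduct WithConv HopfRep
open Groth.Agent.Books.AffBridge Groth.Agent.Books.AffBridge2

namespace K206.UnipQuot

open K206.KerPts K206.UnipRet K206.RetQuot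

variable {k : Type u} [Field k]

/-- An equation between morphisms out of a product of affine schemes may be checked on affine
points. -/
lemma eq_of_affine_points {X Y Z : Over (Spec (CommRingCat.of k))} [IsAffine (X ⊗ Y).left]
    (a b : X ⊗ Y ⟶ Z)
    (h : ∀ (R : Type u) [CommRing R] [Algebra k R] (t : SpecOver k R ⟶ X ⊗ Y), t ≫ a = t ≫ b) :
    a = b := by
  obtain ⟨R, _, _, ⟨e⟩⟩ := Groth.Agent.Sga3B.RG.BrDiag.exists_specOver (X ⊗ Y)
  rw [← cancel_epi e.inv]
  exact h R e.inv

variable {A C : Type u} [CommRing A] [HopfAlgebra k A] [CommRing C] [HopfAlgebra k C]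

instance : IsAffine (SpecOver k A).left := inferInstanceAs (IsAffine (Spec (CommRingCat.of A)))

lemma isAffine_tensor (X Y : Over (Spec (CommRingCat.of k))) [IsAffine X.left] [IsAffine Y.left] :
    IsAffine (X ⊗ Y).left := by
  rw [Over.tensorObj_left]
  infer_instance

lemma isEqRet_specMap {ψ : A →ₐc[k] C} {n : C →ₐ[k] A} (h : IsRet ψ n) :
    IsEqRet (specMap k (ψ : A →ₐ[k] C)) (specMap k n) := by
  have h1 : ∀ (R : Type u) [CommRing R] [Algebra k R] (g : SpecOver k R ⟶ SpecOver k A)
      (y : SpecOver k R ⟶ SpecOver k C),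
      (g * (y ≫ specMap k (ψ : A →ₐ[k] C))) ≫ specMap k n = (g ≫ specMap k n) * y := by
    intro R _ _ g y
    have hg := specMap_specPreimage k g
    have hy := specMap_specPreimage k y
    have e1 := h R (toConv (specPreimage k g)) (toConv (specPreimage k y))
    have e2 : y ≫ specMap k (ψ : A →ₐ[k] C) =
        specMap k (resPt ψ (toConv (specPreimage k y))).ofConv := by
      conv_lhs => rw [← hy]
      rw [← specMap_comp]
      rfl
    have e3 : g = specMap k (toConv (specPreimage k g)).ofConv := hg.symm
    rw [e2]
    conv_lhs => rw [e3]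
    rw [← specMap_mul, ← specMap_comp]
    have e4 := congrArg (fun z : WithConv (C →ₐ[k] R) => specMap k z.ofConv) e1
    refine e4.trans ?_
    change specMap k (toConv ((specPreimage k g).comp n) * toConv (specPreimage k y)).ofConv = _
    rw [specMap_mul]
    change specMap k ((specPreimage k g).comp n) * specMap k (specPreimage k y) = _
    rw [specMap_comp, hg, hy]
  have h2 : ((fst (SpecOver k A) (SpecOver k C)) * ((snd (SpecOver k A) (SpecOver k C)) ≫
      specMap k (ψ : A →ₐ[k] C))) ≫ specMap k n =
      ((fst (SpecOver k A) (SpecOver k C)) ≫ specMap k n) * (snd (SpecOver k A) (SpecOver k C)) := by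
    have := isAffine_tensor (SpecOver k A) (SpecOver k C)
    apply eq_of_affine_points
    intro R _ _ t
    rw [← Category.assoc, MonObj.comp_mul, MonObj.comp_mul, ← Category.assoc, ← Category.assoc, h1]
  intro T g y
  have h3 := congrArg (fun z => lift g y ≫ z) h2
  simp only [← Category.assoc, MonObj.comp_mul, lift_fst, lift_snd] at h3
  exact h3

variable [CharZero k]

/-- **The quotient of a unipotent group by a closed subgroup exists and is affine (characteristic
zero).** -/
theorem exists_quotient {U V : Over (Spec (CommRingCat.of k))} [GrpObj U] [GrpObj V] (j : V ⟶ U)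
    [IsMonHom j] (hj : IsClosedImmersion j.left) (e : U ≅ SpecOver k A) [IsMonHom e.hom]
    [Algebra.FiniteType k A] (hU : IsUnipotent k A) :
    ∃ (Q : Over (Spec (CommRingCat.of k))) (q : U ⟶ Q), RedSub.IsQuotient j q ∧ IsAffine Q.left := by
  have hcl : IsClosedImmersion (j ≫ e.hom).left := by
    rw [Over.comp_left]
    infer_instance
  obtain ⟨I, hI, e', he', hee⟩ := exists_hopfIdeal k (j ≫ e.hom)
  let ψ : A →ₐc[k] A ⧸ I := Bialgebra.Quotient.mkBialgHom (R := k) I
  have hψ : (ψ : A →ₐ[k] A ⧸ I) = Ideal.Quotient.mkₐ k I := rfl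
  obtain ⟨n, hn⟩ := exists_isRet hU ψ Ideal.Quotient.mk_surjective
  have hn' := isEqRet_specMap hn
  rw [hψ] at hn'
  have hr : IsEqRet j (e.hom ≫ specMap k n ≫ e'.inv) := by
    intro T g y
    have h1 := hn' T (g ≫ e.hom) (y ≫ e'.hom)
    rw [Category.assoc, hee, ← Category.assoc y, ← MonObj.mul_comp] at h1
    rw [← Category.assoc, ← Category.assoc, h1, MonObj.mul_comp, Category.assoc, Category.assoc,
      Category.assoc, Iso.hom_inv_id, Category.comp_id]
  have hlU : LocallyOfFiniteType U.hom := by
    rw [hom_eq_of_iso e]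
    have := (locallyOfFiniteType_specOver_iff k A).2 inferInstance
    infer_instance
  have hlV : LocallyOfFiniteType V.hom := by
    rw [← Over.w j]
    infer_instance
  have haU : IsAffine U.left := IsAffine.of_isIso e.hom.left
  have haV : IsAffine V.left := isAffine_of_isAffineHom j.left
  have hsV : Smooth V.hom := Groth.Agent.S0353.result k V
  have hmono : Mono j := by
    have : Mono j.left := inferInstance
    exact Over.mono_of_mono_left j
  have hsep : IsSeparated V.hom := inferInstance
  refine ⟨_, _, isQuotient hr, ?_⟩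
  have h2 := isClosedImmersion_fibι (n := e.hom ≫ specMap k n ≫ e'.inv)
  exact isAffine_of_isAffineHom (fibι (e.hom ≫ specMap k n ≫ e'.inv)).left

end K206.UnipQuot
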