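import Groth.Agent.PrincBund.K206.KerPts
import Groth.Agent.PrincBund.K206.PrimKer
import Groth.Agent.PrincBund.K206.Dixmier
import Groth.Agent.Sga3.H808.Retract
import Groth.Agent.Sga7.H740.GaKey
import Groth.Agent.MiscA.HopfRange
import Groth.Agent.Books.NormalKer

/-!
# Equivariant retractions of unipotent groups onto closed subgroups (characteristic zero)
-/

set_option autoImplicit false
set_option maxHeartbeats 400000

universe u

open TensorProduct WithConv Coalgebra HopfRep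
open Groth.Agent.Books.DynBasic K206.KerPts K206.Dixmier
open Groth.Agent.Books.ComodDual Groth.Agent.Books.ComodSocle Groth.Agent.Books.CharZeroUnip2

namespace K206.UnipRet

variable {k : Type u} [Field k] {A C : Type u} [CommRing A] [HopfAlgebra k A] [CommRing C]
  [HopfAlgebra k C]

/-- `n` is the comorphism of an equivariant retraction of a group onto a subgroup (for the right
translations by the subgroup) -/
def IsRet (ψ : A →ₐc[k] C) (n : C →ₐ[k] A) : Prop :=
  ∀ (R : Type u) [CommRing R] [Algebra k R] (f : WithConv (A →ₐ[k] R)) (h : WithConv (C →ₐ[k] R)),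
    toConv ((f * resPt ψ h).ofConv.comp n) = toConv (f.ofConv.comp n) * h

lemma IsRet.comp {B : Type u} [CommRing B] [HopfAlgebra k B] {ψ₁ : A →ₐc[k] B} {ψ₂ : B →ₐc[k] C}
    {n₁ : B →ₐ[k] A} {n₂ : C →ₐ[k] B} (h₁ : IsRet ψ₁ n₁) (h₂ : IsRet ψ₂ n₂) :
    IsRet (ψ₂.comp ψ₁) (n₁.comp n₂) := by
  intro R _ _ f h
  have e1 := h₁ R f (resPt ψ₂ h)
  have e2 := h₂ R (toConv (f.ofConv.comp n₁)) h
  have e3 : toConv ((f * resPt (ψ₂.comp ψ₁) h).ofConv.comp (n₁.comp n₂)) =
      toConv ((toConv ((f * resPt ψ₁ (resPt ψ₂ h)).ofConv.comp n₁)).ofConv.comp n₂) := rfl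
  rw [e3, e1, e2]
  rfl

lemma isRet_of_bijective (ψ : A →ₐc[k] C) (hψ : Function.Bijective ψ) :
    ∃ n : C →ₐ[k] A, IsRet ψ n := by
  let e : A ≃ₐ[k] C := AlgEquiv.ofBijective (ψ : A →ₐ[k] C) hψ
  refine ⟨(e.symm : C →ₐ[k] A), ?_⟩
  intro R _ _ f h
  apply WithConv.ofConv_injective
  ext c
  obtain ⟨a, rfl⟩ := hψ.2 c
  have h1 : e.symm (ψ a) = a := e.symm_apply_apply a
  change (f * resPt ψ h).ofConv (e.symm (ψ a)) = (resPt ψ (toConv (f.ofConv.comp (e.symm : C →ₐ[k] A)) *
    h)).ofConv a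
  rw [h1, map_mul]
  congr 3
  apply WithConv.ofConv_injective
  ext b
  change f.ofConv b = f.ofConv (e.symm (ψ b))
  rw [show e.symm (ψ b) = b from e.symm_apply_apply b]

section slice

variable (θ : A →ₗ[k] k)

lemma ract_mul (hθ : ∀ a b : A, θ (a * b) = CoalgebraStruct.counit (R := k) a * θ b +
      CoalgebraStruct.counit (R := k) b * θ a) (a b : A) :
    ract θ (a * b) = a * ract θ b + b * ract θ a := by
  let T : (A →ₗ[k] k) → A ⊗[k] A →ₗ[k] A := fun g =>
    (TensorProduct.lid k A).toLinearMap ∘ₗ g.rTensor A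
  have hT : ∀ (g : A →ₗ[k] k) (x y : A), T g (x ⊗ₜ y) = g x • y := by
    intro g x y
    simp [T]
  have h1 : ∀ z w : A ⊗[k] A, T θ (z * w) =
      T (CoalgebraStruct.counit (R := k) (A := A)) z * T θ w +
      T (CoalgebraStruct.counit (R := k) (A := A)) w * T θ z := by
    intro z w
    induction z with
    | zero => simp
    | add x y hx hy => simp only [add_mul, map_add, hx, hy, mul_add]; ring
    | tmul x y =>
      induction w with
      | zero => simp
      | add z w hz hw => simp only [mul_add, map_add, hz, hw, add_mul]; ring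
      | tmul z w =>
        simp only [Algebra.TensorProduct.tmul_mul_tmul, hT, hθ,
          Algebra.smul_def, map_mul, map_add]
        ring
  have h2 : ∀ (g : A →ₗ[k] k) (a : A), T g (CoalgebraStruct.comul (R := k) a) = ract g a :=
    fun g a => rfl
  rw [← h2, Bialgebra.comul_mul, h1, h2, h2, h2, h2, ract_counit, ract_counit]

lemma ract_pow_eq_zero (h1 : θ 1 = 0) (n : ℕ) (a : A) (ha : a ∈ soc k A A n) :
    (ract θ ^ n) a = 0 := by
  induction n generalizing a with
  | zero => exact (Submodule.mem_bot k).1 ha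
  | succ n ih =>
    rw [pow_succ, Module.End.mul_apply]
    exact ih _ ((mem_soc_succ_iff_ract n a).1 ha θ h1)

lemma cact_ract_pow (g : A →ₗ[k] k) (n : ℕ) (a : A) :
    cact g ((ract θ ^ n) a) = (ract θ ^ n) (cact g a) := by
  induction n generalizing a with
  | zero => rfl
  | succ n ih =>
    rw [pow_succ, Module.End.mul_apply, Module.End.mul_apply, ih, cact_ract]

lemma contr_rho (ψ : A →ₐc[k] C) (f : C →ₗ[k] k) (a : A) :
    contr f (rho ψ a) = cact (f ∘ₗ (ψ : A →ₐ[k] C).toLinearMap) a := by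
  rw [rho_apply, cact_regular]
  generalize CoalgebraStruct.comul (R := k) a = z
  induction z with
  | zero => simp
  | add x y hx hy => simp only [map_add, hx, hy]
  | tmul x y => simp

lemma rho_prim (ψ : A →ₐc[k] C) {x : A} (hx : IsPrim k x) (hψ : ψ x = 0) :
    rho ψ x = x ⊗ₜ[k] (1 : C) := by
  have h1 : comul (R := k) x = x ⊗ₜ[k] (1 : A) + (1 : A) ⊗ₜ[k] x := hx
  have h2 : (ψ : A →ₐ[k] C).toLinearMap x = 0 := hψ
  have h3 : (ψ : A →ₐ[k] C).toLinearMap 1 = 1 := map_one (ψ : A →ₐ[k] C)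
  rw [rho_apply, h1, map_add, TensorProduct.map_tmul, TensorProduct.map_tmul, h2, h3, tmul_zero,
    add_zero]
  rfl

lemma cact_mul_pow (ψ : A →ₐc[k] C) {x : A} (hx : IsPrim k x) (hψ : ψ x = 0) (f : C →ₗ[k] k)
    (b : A) (n : ℕ) : cact (f ∘ₗ (ψ : A →ₐ[k] C).toLinearMap) (b * (-x) ^ n) =
      cact (f ∘ₗ (ψ : A →ₐ[k] C).toLinearMap) b * (-x) ^ n := by
  rw [← contr_rho, ← contr_rho, map_mul, map_pow, map_neg, rho_prim ψ hx hψ, ← neg_tmul,
    Algebra.TensorProduct.tmul_pow, one_pow]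
  generalize rho ψ b = z
  induction z with
  | zero => simp
  | add x y hx hy => simp only [map_add, add_mul, hx, hy]
  | tmul x y =>
    rw [Algebra.TensorProduct.tmul_mul_tmul, mul_one, contr_tmul, contr_tmul, smul_mul_assoc]

variable [CharZero k]

lemma rho_dix (hθ : ∀ a b : A, θ (a * b) = CoalgebraStruct.counit (R := k) a * θ b +
      CoalgebraStruct.counit (R := k) b * θ a) (h1 : θ 1 = 0)
    (hs : ∀ a, ∃ n, (ract θ ^ n) a = 0)
    (ψ : A →ₐc[k] C) {x : A} (hx : IsPrim k x) (hψ : ψ x = 0) (a : A) :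
    rho ψ (dix (ract θ) (ract_mul θ hθ) hs x a) =
      (dix (ract θ) (ract_mul θ hθ) hs x).toLinearMap.rTensor C (rho ψ a) := by
  apply eq_of_contr
  intro f
  rw [contr_rho, contr_comp_rTensor, contr_rho, AlgHom.toLinearMap_apply]
  obtain ⟨N, hN⟩ := hs a
  have hN' : (ract θ ^ N) (cact (f ∘ₗ (ψ : A →ₐ[k] C).toLinearMap) a) = 0 := by
    rw [← cact_ract_pow, hN, map_zero]
  rw [dix_eq_sum _ _ _ _ _ hN, dix_eq_sum _ _ _ _ _ hN', map_sum]
  refine Finset.sum_congr rfl fun n _ => ?_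
  rw [cact_mul_pow ψ hx hψ, e_apply, e_apply, map_smul, cact_ract_pow]

end slice

section step

variable [CharZero k]

/-- **The kernel of a nonzero additive function is an equivariant retract.** -/
theorem exists_isRet_span (h : ∀ a : A, ∃ n, a ∈ soc k A A n) {x : A} (hx : IsPrim k x)
    (hx0 : x ≠ 0) (ψ : A →ₐc[k] C) (hs : Function.Surjective ψ)
    (hker : ∀ a, ψ a = 0 ↔ a ∈ Ideal.span {x}) : ∃ n : C →ₐ[k] A, IsRet ψ n := by
  obtain ⟨l, hl⟩ : ∃ l : A →ₗ[k] k, l x = 1 := by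
    obtain ⟨f, hf⟩ : ∃ f : A →ₗ[k] k, f x ≠ 0 := by
      by_contra hcon
      push Not at hcon
      exact hx0 ((Module.forall_dual_apply_eq_zero_iff k x).1 hcon)
    exact ⟨(f x)⁻¹ • f, by rw [LinearMap.smul_apply, smul_eq_mul, inv_mul_cancel₀ hf]⟩
  let θ : A →ₗ[k] k := l ∘ₗ E h 1
  have hθ : ∀ a b : A, θ (a * b) = CoalgebraStruct.counit (R := k) a * θ b +
      CoalgebraStruct.counit (R := k) b * θ a := by
    intro a b
    change l (E h 1 (a * b)) = _
    rw [E_one_mul, map_add, map_smul, map_smul]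
    rfl
  have hθx : θ x = 1 := by
    change l (E h 1 x) = 1
    rw [E_one_of_isPrim h hx, hl]
  have hθ1 : θ 1 = 0 := by
    have h1 := hθ 1 1
    rw [mul_one, Bialgebra.counit_one, one_mul] at h1
    exact left_eq_add.1 h1
  have hnil : ∀ a, ∃ n, (ract θ ^ n) a = 0 := fun a => by
    obtain ⟨n, hn⟩ := h a
    exact ⟨n, ract_pow_eq_zero θ hθ1 n a hn⟩
  have hDx : ract θ x = 1 := by
    have h1 : comul (R := k) x = x ⊗ₜ[k] (1 : A) + (1 : A) ⊗ₜ[k] x := hx
    rw [ract, LinearMap.comp_apply, LinearMap.comp_apply, h1]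
    simp [hθx, hθ1]
  let Φ : A →ₐ[k] A := dix (ract θ) (ract_mul θ hθ) hnil x
  have hΦx : Φ x = 0 := dix_slice (ract θ) (ract_mul θ hθ) hnil x hDx
  have hΦ : ∀ a, ψ a = 0 → Φ a = 0 := by
    intro a ha
    rw [hker, Ideal.mem_span_singleton] at ha
    obtain ⟨b, rfl⟩ := ha
    rw [map_mul, hΦx, zero_mul]
  let e0 := Ideal.quotientKerAlgEquivOfSurjective (f := (ψ : A →ₐ[k] C)) hs
  let y0 : (A ⧸ RingHom.ker (ψ : A →ₐ[k] C)) →ₐ[k] A := Ideal.Quotient.liftₐ _ Φ (fun a ha => hΦ a ha)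
  let n : C →ₐ[k] A := y0.comp (e0.symm : C →ₐ[k] _)
  have hn : ∀ a, n (ψ a) = Φ a := by
    intro a
    change y0 (e0.symm (ψ a)) = Φ a
    have h1 : e0.symm (ψ a) = Ideal.Quotient.mk _ a := by
      rw [AlgEquiv.symm_apply_eq]
      rfl
    rw [h1]
    rfl
  have hψx : ψ x = 0 := (hker x).2 (Ideal.mem_span_singleton_self x)
  refine ⟨n, ?_⟩
  intro R _ _ f g
  apply WithConv.ofConv_injective
  ext c
  obtain ⟨a, rfl⟩ := hs c
  change (f * resPt ψ g).ofConv (n (ψ a)) =
    (resPt ψ (toConv (f.ofConv.comp n) * g)).ofConv a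
  have h2 : resPt ψ (toConv (f.ofConv.comp n)) = toConv (f.ofConv.comp Φ) := by
    apply WithConv.ofConv_injective
    ext b
    change f.ofConv (n (ψ b)) = f.ofConv (Φ b)
    rw [hn]
  rw [hn, map_mul, h2]
  have h3 := lift_rho ψ f.ofConv g.ofConv (Φ a)
  have h4 := lift_rho ψ (f.ofConv.comp Φ) g.ofConv a
  have h5 : rho ψ (Φ a) = Φ.toLinearMap.rTensor C (rho ψ a) :=
    rho_dix θ hθ hθ1 hnil ψ hx hψx a
  change _ = ((toConv (f.ofConv.comp Φ) * toConv (g.ofConv.comp (ψ : A →ₐ[k] C))).ofConv a)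
  rw [← h4]
  refine h3.symm.trans ?_
  rw [h5]
  generalize rho ψ a = z
  induction z with
  | zero => simp
  | add x y hx hy => simp only [map_add, hx, hy]
  | tmul x y => simp

/-- **Closed subgroups of unipotent groups in characteristic zero are equivariant retracts.** -/
theorem exists_isRet_aux [IsNoetherianRing A] (ψ : A →ₐc[k] C) (hψ : Function.Surjective ψ) :
    ∀ (I : Ideal A) (A' : Type u) [CommRing A'] [HopfAlgebra k A'] (π : A →ₐc[k] A')
      (_ : Function.Surjective π) (_ : Groth.Agent.MiscA.HopfRange.kerI π = I)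
      (_ : IsUnipotent k A') (ψ' : A' →ₐc[k] C) (_ : ψ'.comp π = ψ),
      ∃ n : C →ₐ[k] A', IsRet ψ' n := by
  intro I
  induction I using (wellFounded_gt (α := Ideal A)).induction with
  | _ I ih =>
    intro A' _ _ π hπ hI hU ψ' hψ'
    have hs' : Function.Surjective ψ' := by
      intro c
      obtain ⟨a, rfl⟩ := hψ c
      refine ⟨π a, ?_⟩
      rw [← hψ']
      rfl
    by_cases hinj : Function.Injective ψ'
    · exact isRet_of_bijective ψ' ⟨hinj, hs'⟩
    obtain ⟨x, hx0, hx, hψx⟩ := K206.PrimKer.exists_prim_ker ψ' (isUnipotent_iff.1 hU) hinj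
    have hH : (Ideal.span {x} : Ideal A').IsHopfIdeal k :=
      Groth.Agent.Sga7.H740.GaKey.isHopfIdeal_span hx
    let q : A' →ₐc[k] A' ⧸ (Ideal.span {x} : Ideal A') :=
      Bialgebra.Quotient.mkBialgHom (R := k) (Ideal.span {x})
    have hq : Function.Surjective q := Ideal.Quotient.mk_surjective
    have hqker : ∀ a, q a = 0 ↔ a ∈ Ideal.span {x} := fun a => Ideal.Quotient.eq_zero_iff_mem
    have hkill : ∀ a ∈ (Ideal.span {x} : Ideal A'), ψ' a = 0 := by
      intro a ha
      rw [Ideal.mem_span_singleton] at ha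
      obtain ⟨b, rfl⟩ := ha
      rw [map_mul, hψx, zero_mul]
    let ψ'' : (A' ⧸ (Ideal.span {x} : Ideal A')) →ₐc[k] C :=
      Groth.Agent.Books.NormalKer.liftBialg (Ideal.span {x}) ψ' hkill
    have hψ'' : ψ''.comp q = ψ' := by
      apply BialgHom.ext
      intro a
      rfl
    obtain ⟨n₁, hn₁⟩ := exists_isRet_span (isUnipotent_iff.1 hU) hx hx0 q hq hqker
    have hUq : IsUnipotent k (A' ⧸ (Ideal.span {x} : Ideal A')) :=
      Groth.Agent.Sga3.H808.Retract.isUnipotent_of_surjective q hq hU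
    have hlt : I < Groth.Agent.MiscA.HopfRange.kerI (q.comp π) := by
      rw [← hI]
      refine lt_of_le_of_ne ?_ ?_
      · intro a ha
        change q (π a) = 0
        have h1 : π a = 0 := ha
        rw [h1, map_zero]
      · intro heq
        obtain ⟨y, rfl⟩ := hπ x
        have h1 : y ∈ Groth.Agent.MiscA.HopfRange.kerI (q.comp π) := by
          change q (π y) = 0
          exact (hqker _).2 (Ideal.mem_span_singleton_self _)
        rw [← heq] at h1
        exact hx0 h1
    obtain ⟨n₂, hn₂⟩ := ih _ hlt _ (q.comp π) (hq.comp hπ) rfl hUq ψ'' (by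
      rw [← hψ']
      apply BialgHom.ext
      intro a
      rfl)
    have h3 := hn₁.comp hn₂
    rw [hψ''] at h3
    exact ⟨_, h3⟩

/-- **Closed subgroups of unipotent groups in characteristic zero are equivariant retracts.** -/
theorem exists_isRet [Algebra.FiniteType k A] (hU : IsUnipotent k A) (ψ : A →ₐc[k] C)
    (hψ : Function.Surjective ψ) : ∃ n : C →ₐ[k] A, IsRet ψ n := by
  have hN : IsNoetherianRing A := Algebra.FiniteType.isNoetherianRing k A
  exact exists_isRet_aux ψ hψ _ A (BialgHom.id k A) Function.surjective_id rfl hU ψ (by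
    apply BialgHom.ext
    intro a
    rfl)

end step

end K206.UnipRet
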